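import Cfsg.Agent.Lib.CharsMore.InertiaAbelian
import Cfsg.Agent.Lib.CharApps.Palfy.Setting
import Cfsg.Agent.Lib.Chars.Linear
import Mathlib

/-!
Character degree antichains with an automorphism fixing every nonlinear irreducible character.
-/

set_option autoImplicit false
set_option linter.unusedSectionVars false

namespace CfsgLib.DegreeAntichain

open Cfsg CfsgLib.CharsMore CfsgLib.CharApps
open scoped commutatorElement

universe u

/-- The data: an automorphism of order dividing `f` modulo inner ones that fixes all nonlinear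
characters, whose degrees form an antichain, are divisible by `q` and prime to `f`. -/
structure Data (X : Type u) [Group X] (γ : MulAut X) (q f : ℕ) : Prop where
  prime : q.Prime
  not_dvd : ¬ q ∣ f
  inner : ∃ n, ∀ x, (γ : X → X)^[f] x = n * x * n⁻¹
  dvd : ∀ χ : IrrCharacter X, charDegree (χ : X → ℂ) ≠ 1 → q ∣ charDegree (χ : X → ℂ)
  cop : ∀ χ : IrrCharacter X, charDegree (χ : X → ℂ) ≠ 1 →
    Nat.Coprime (charDegree (χ : X → ℂ)) f
  fixed : ∀ χ : IrrCharacter X, charDegree (χ : X → ℂ) ≠ 1 →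
    ∀ x, (χ : X → ℂ) (γ x) = (χ : X → ℂ) x
  anti : ∀ χ ξ : IrrCharacter X, charDegree (χ : X → ℂ) ≠ 1 → charDegree (ξ : X → ℂ) ≠ 1 →
    charDegree (χ : X → ℂ) ∣ charDegree (ξ : X → ℂ) →
      charDegree (χ : X → ℂ) = charDegree (ξ : X → ℂ)

variable {X : Type u} [Group X]

theorem mem_iff_of_invariant [Finite X] (γ : MulAut X) {M : Subgroup X} (hM : ∀ m ∈ M, γ m ∈ M)
    (m : X) : γ m ∈ M ↔ m ∈ M := by
  refine ⟨fun h => ?_, hM m⟩
  let g : M → M := fun m => ⟨γ m, hM m m.2⟩
  have hg : Function.Injective g := fun a b e =>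
    Subtype.ext (γ.injective (congrArg Subtype.val e))
  obtain ⟨b, hb⟩ := Finite.injective_iff_surjective.1 hg ⟨γ m, h⟩
  rw [← γ.injective (congrArg Subtype.val hb)]
  exact b.2

/-- The automorphism of a quotient. -/
noncomputable def quotAut [Finite X] (γ : MulAut X) (Y : Subgroup X) [Y.Normal]
    (hY : ∀ y ∈ Y, γ y ∈ Y) : MulAut (X ⧸ Y) :=
  MulEquiv.ofBijective (QuotientGroup.map Y Y γ.toMonoidHom hY) (by
    have hs : Function.Surjective (QuotientGroup.map Y Y γ.toMonoidHom hY) := fun a => by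
      obtain ⟨x, rfl⟩ := QuotientGroup.mk_surjective a
      exact ⟨(γ.symm x : X), congrArg QuotientGroup.mk (γ.apply_symm_apply x)⟩
    exact ⟨Finite.injective_iff_surjective.2 hs, hs⟩)

theorem quotAut_mk [Finite X] (γ : MulAut X) (Y : Subgroup X) [Y.Normal]
    (hY : ∀ y ∈ Y, γ y ∈ Y) (x : X) : quotAut γ Y hY (x : X ⧸ Y) = ((γ x : X) : X ⧸ Y) := rfl

theorem Data.quotient [Finite X] {γ : MulAut X} {q f : ℕ} (D : Data X γ q f) (Y : Subgroup X)
    [Y.Normal] (hY : ∀ y ∈ Y, γ y ∈ Y) : Data (X ⧸ Y) (quotAut γ Y hY) q f := by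
  have hd : ∀ χ : IrrCharacter (X ⧸ Y), charDegree (inflate Y χ : X → ℂ) =
      charDegree (χ : X ⧸ Y → ℂ) := inflate_charDegree Y
  refine ⟨D.prime, D.not_dvd, ?_, fun χ h => ?_, fun χ h => ?_, fun χ h a => ?_,
    fun χ ξ h h' hdvd => ?_⟩
  · obtain ⟨n, hn⟩ := D.inner
    refine ⟨n, fun a => ?_⟩
    obtain ⟨x, rfl⟩ := QuotientGroup.mk_surjective a
    have : ∀ i, (quotAut γ Y hY : X ⧸ Y → X ⧸ Y)^[i] (x : X ⧸ Y) =
        (((γ : X → X)^[i] x : X) : X ⧸ Y) := by
      intro i
      induction i with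
      | zero => rfl
      | succ i ih =>
        rw [Function.iterate_succ_apply', Function.iterate_succ_apply', ih, quotAut_mk]
    rw [this, hn]
    rfl
  · exact hd χ ▸ D.dvd (inflate Y χ) (hd χ ▸ h)
  · exact hd χ ▸ D.cop (inflate Y χ) (hd χ ▸ h)
  · obtain ⟨x, rfl⟩ := QuotientGroup.mk_surjective a
    exact D.fixed (inflate Y χ) (hd χ ▸ h) x
  · have := D.anti (inflate Y χ) (inflate Y ξ) (hd χ ▸ h) (hd ξ ▸ h') (by rw [hd, hd]; exact hdvd)
    rwa [hd, hd] at this

/-- The elements fixed modulo a normal subgroup. -/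
def fixMod (γ : MulAut X) (M : Subgroup X) [hn : M.Normal] : Subgroup X where
  carrier := {x | γ x * x⁻¹ ∈ M}
  one_mem' := by simp
  mul_mem' {a b} ha hb := by
    have h := M.mul_mem (hn.conj_mem _ hb (γ a)) ha
    have e : γ (a * b) * (a * b)⁻¹ = γ a * (γ b * b⁻¹) * (γ a)⁻¹ * (γ a * a⁻¹) := by
      rw [map_mul]; group
    change γ (a * b) * (a * b)⁻¹ ∈ M
    rw [e]; exact h
  inv_mem' {a} ha := by
    have h := hn.conj_mem _ (M.inv_mem ha) (γ a)⁻¹
    have e : γ a⁻¹ * a⁻¹⁻¹ = (γ a)⁻¹ * (γ a * a⁻¹)⁻¹ * (γ a)⁻¹⁻¹ := by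
      rw [map_inv]; group
    change γ a⁻¹ * a⁻¹⁻¹ ∈ M
    rw [e]; exact h

theorem mem_fixMod {γ : MulAut X} {M : Subgroup X} [M.Normal] {x : X} :
    x ∈ fixMod γ M ↔ γ x * x⁻¹ ∈ M := Iff.rfl

theorem le_fixMod {γ : MulAut X} {M : Subgroup X} [M.Normal] (hM : ∀ m ∈ M, γ m ∈ M) :
    M ≤ fixMod γ M := fun m hm => M.mul_mem (hM m hm) (M.inv_mem hm)

theorem mk_comm {M : Subgroup X} [M.Normal] (hab : commutator X ≤ M) (a b : X) :
    (a : X ⧸ M) * b = b * a := by
  rw [← commutatorElement_eq_one_iff_mul_comm]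
  exact (QuotientGroup.eq_one_iff (⁅a, b⁆ : X)).2
    (hab (Subgroup.commutator_mem_commutator (Subgroup.mem_top a) (Subgroup.mem_top b)))

/-- An element whose displacement is fixed has displacement of order dividing `f`. -/
theorem Data.pow_mem {γ : MulAut X} {q f : ℕ} (D : Data X γ q f) {M : Subgroup X} [M.Normal]
    (hM : ∀ m ∈ M, γ m ∈ M) (hab : commutator X ≤ M) {y : X}
    (hb : γ y * y⁻¹ ∈ fixMod γ M) : (γ y * y⁻¹) ^ f ∈ M := by
  set b := γ y * y⁻¹ with hbdef
  have hbb : ((γ b : X) : X ⧸ M) = (b : X ⧸ M) := by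
    have h1 := (QuotientGroup.eq_one_iff (γ b * b⁻¹ : X)).2 (mem_fixMod.1 hb)
    rwa [QuotientGroup.mk_mul, QuotientGroup.mk_inv, mul_inv_eq_one] at h1
  have hy : γ y = b * y := by rw [hbdef, inv_mul_cancel_right]
  clear_value b
  have hmap : ∀ a c : X, (a : X ⧸ M) = (c : X ⧸ M) → ((γ a : X) : X ⧸ M) = (γ c : X) := by
    intro a c h
    rw [QuotientGroup.eq] at h ⊢
    rw [← map_inv, ← map_mul]
    exact hM _ h
  have hi : ∀ i, (((γ : X → X)^[i] y : X) : X ⧸ M) = ((b ^ i * y : X) : X ⧸ M) := by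
    intro i
    induction i with
    | zero => simp
    | succ i ih =>
      rw [Function.iterate_succ_apply', hmap _ _ ih, map_mul, map_pow, hy, QuotientGroup.mk_mul,
        QuotientGroup.mk_pow, hbb, QuotientGroup.mk_mul, QuotientGroup.mk_mul,
        QuotientGroup.mk_pow, ← mul_assoc, ← pow_succ]
  obtain ⟨n, hn⟩ := D.inner
  have h := hi f
  rw [hn, QuotientGroup.mk_mul, QuotientGroup.mk_mul, QuotientGroup.mk_inv, mk_comm hab n y,
    mul_inv_cancel_right, QuotientGroup.mk_mul, eq_comm, mul_eq_right, QuotientGroup.eq_one_iff] at h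
  exact h

theorem eq_one_of_pow_mem {M : Subgroup X} {b : X} {m k : ℕ} (h1 : b ^ m ∈ M) (h2 : b ^ k ∈ M)
    (hc : Nat.Coprime m k) : b ∈ M := by
  have h := Nat.gcd_eq_gcd_ab m k
  rw [hc] at h
  rw [← zpow_one b, show ((1 : ℤ)) = ((1 : ℕ) : ℤ) from rfl, h, zpow_add, zpow_mul, zpow_mul,
    zpow_natCast, zpow_natCast]
  exact M.mul_mem (M.zpow_mem h1 _) (M.zpow_mem h2 _)

/-- A coset invariant under an element of prime order contains a fixed point. -/
theorem exists_fixed_in_coset [Finite X] {q : ℕ} (hq : q.Prime) {x : X} (hx : x ^ q = 1)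
    (Y : Subgroup X) [hn : Y.Normal] (hY : ¬ q ∣ Nat.card Y) {m : X}
    (hm : x * m * x⁻¹ * m⁻¹ ∈ Y) : ∃ g, g * m⁻¹ ∈ Y ∧ x * g = g * x := by
  classical
  haveI := Fact.mk hq
  let e : {g : X // g * m⁻¹ ∈ Y} ≃ Y :=
    { toFun := fun g => ⟨g.1 * m⁻¹, g.2⟩
      invFun := fun y => ⟨(y : X) * m, by simp⟩
      left_inv := fun g => by ext; simp
      right_inv := fun y => by ext; simp }
  haveI := Fintype.ofFinite {g : X // g * m⁻¹ ∈ Y}
  have h : ∀ g : X, (MulAut.conj x).toEquiv g * m⁻¹ ∈ Y ↔ g * m⁻¹ ∈ Y := by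
    intro g
    have h1 : x * g * x⁻¹ * m⁻¹ = x * (g * m⁻¹) * x⁻¹ * (x * m * x⁻¹ * m⁻¹) := by group
    have h2 : (MulAut.conj x).toEquiv g = x * g * x⁻¹ := rfl
    rw [h2, h1, Y.mul_mem_cancel_right hm]
    refine ⟨fun h => ?_, fun h => hn.conj_mem _ h x⟩
    have := hn.conj_mem _ h x⁻¹
    simpa [mul_assoc] using this
  let σ : Equiv.Perm {g : X // g * m⁻¹ ∈ Y} :=
    Equiv.Perm.subtypePerm (MulAut.conj x).toEquiv h
  have hσ : σ ^ q ^ 1 = 1 := by
    refine Equiv.ext fun g => Subtype.ext ?_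
    rw [pow_one, Equiv.Perm.subtypePerm_pow]
    have : ((MulAut.conj x).toEquiv : Equiv.Perm X) ^ q = 1 := by
      refine Equiv.ext fun a => ?_
      have hi : ∀ i, (((MulAut.conj x).toEquiv : Equiv.Perm X) ^ i) a = x ^ i * a * (x ^ i)⁻¹ := by
        intro i
        induction i with
        | zero => simp
        | succ i ih =>
          rw [pow_succ', Equiv.Perm.mul_apply, ih]
          change x * (x ^ i * a * (x ^ i)⁻¹) * x⁻¹ = _
          rw [pow_succ']; group
      rw [hi, hx]; simp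
    exact DFunLike.congr_fun this (g : X)
  obtain ⟨⟨g, hg⟩, hgg⟩ := Equiv.Perm.exists_fixed_point_of_prime
    (p := q) (n := 1) (by rwa [← Nat.card_eq_fintype_card, Nat.card_congr e]) hσ
  refine ⟨g, hg, ?_⟩
  have hv : x * g * x⁻¹ = g := congrArg Subtype.val hgg
  exact mul_inv_eq_iff_eq_mul.1 hv

/-- A character separating a point from a normal subgroup with abelian quotient. -/
theorem exists_hom_ne_one [Finite X] (M : Subgroup X) [M.Normal] (hab : commutator X ≤ M) {z : X}
    (hz : z ∉ M) : ∃ μ : X →* ℂˣ, (∀ m ∈ M, μ m = 1) ∧ μ z ≠ 1 := by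
  letI : CommGroup (X ⧸ M) :=
    { (inferInstance : Group (X ⧸ M)) with
      mul_comm := fun a b => by
        induction a using QuotientGroup.induction_on with | _ a => ?_
        induction b using QuotientGroup.induction_on with | _ b => ?_
        exact mk_comm hab a b }
  haveI : NeZero (Monoid.exponent (X ⧸ M) : ℂ) :=
    ⟨Nat.cast_ne_zero.mpr Monoid.exponent_ne_zero_of_finite⟩
  obtain ⟨μ, hμ⟩ := CommGroup.exists_apply_ne_one_of_hasEnoughRootsOfUnity (X ⧸ M) ℂ
    (a := (z : X ⧸ M)) fun h => hz ((QuotientGroup.eq_one_iff z).1 h)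
  refine ⟨μ.comp (QuotientGroup.mk' M), fun m hm => ?_, hμ⟩
  change μ (m : X ⧸ M) = 1
  rw [(QuotientGroup.eq_one_iff m).2 hm, map_one]

/-- Restriction of an automorphism to an invariant subgroup. -/
def resAut (γ : MulAut X) (M : Subgroup X) (hM : ∀ m ∈ M, γ m ∈ M) : M →* M :=
  (γ.toMonoidHom.comp M.subtype).codRestrict M fun m => hM m m.2

theorem resAut_bijective [Finite X] (γ : MulAut X) (M : Subgroup X) (hM : ∀ m ∈ M, γ m ∈ M) :
    Function.Bijective (resAut γ M hM) := by
  have hi : Function.Injective (resAut γ M hM) := fun a b e =>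
    Subtype.ext (γ.injective (congrArg Subtype.val e))
  exact ⟨hi, Finite.injective_iff_surjective.1 hi⟩

variable [Fintype X]

theorem indFun_comp_aut (γ : MulAut X) (T : Subgroup X) (hT : ∀ t ∈ T, γ t ∈ T) (η : T → ℂ)
    (x : X) : indFun T η (γ x) = indFun T (fun t => η (resAut γ T hT t)) x := by
  rw [Chars.indFun_apply, Chars.indFun_apply]
  congr 1
  refine (Fintype.sum_equiv γ.toEquiv _ _ fun z => ?_).symm
  change _ = extendByZero T η ((γ z)⁻¹ * γ x * γ z)
  rw [← map_inv, ← map_mul, ← map_mul]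
  by_cases h : z⁻¹ * x * z ∈ T
  · rw [Chars.extendByZero_of_mem T _ h, Chars.extendByZero_of_mem T _ (hT _ h)]
    rfl
  · rw [Chars.extendByZero_of_not_mem T _ h,
      Chars.extendByZero_of_not_mem T _ (fun h' => h ((mem_iff_of_invariant γ hT _).1 h'))]

/-- A fixed character forces the constituents to be moved as by an inner automorphism. -/
theorem exists_conj_of_fixed (γ : MulAut X) (M : Subgroup X) [M.Normal] [Fintype M]
    (hM : ∀ m ∈ M, γ m ∈ M) {φ : M → ℂ} (hφ : IsIrrCharacter M φ) {χ : X → ℂ}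
    (hχ : IsIrrCharacter X χ) (h : classInner (fun m : M => χ m) φ ≠ 0)
    (hfix : ∀ x, χ (γ x) = χ x) :
    ∃ n : X, ∀ m : M, φ (resAut γ M hM m) = φ (conjBy M n m) := by
  have hb := resAut_bijective γ M hM
  have h1 : classInner (fun m : M => χ m) (fun m => φ (resAut γ M hM m)) =
      classInner (fun m : M => χ m) φ := by
    rw [Chars.inner_def, Chars.inner_def]
    congr 1
    refine Fintype.sum_bijective _ hb _ _ fun m => ?_
    rw [← hfix m]
    rfl
  obtain ⟨g, hg⟩ := restrict_constituents_conj M hχ hφ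
    (Chars.isIrrCharacter_comp (resAut γ M hM) hb.2 hφ) h (h1 ▸ h)
  exact ⟨g, fun m => (congrFun hg m).symm⟩

/-- Degrees over an extendible character with abelian quotient. -/
theorem over_degree (M : Subgroup X) [M.Normal] [Fintype M] (hab : commutator X ≤ M) {φ : M → ℂ}
    (hφ : IsIrrCharacter M φ)
    (hext : ∃ ψ : inertia M φ → ℂ, IsIrrCharacter (inertia M φ) ψ ∧
      ∀ n : M, ψ ⟨n, le_inertia M (Chars.isClassFunction_irr ⟨φ, hφ⟩) n.2⟩ = φ n)
    (χ : IrrCharacter X) (h : classInner (fun m : M => (χ : X → ℂ) m) φ ≠ 0) :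
    charDegree (χ : X → ℂ) = (inertia M φ).index * charDegree φ := by
  classical
  obtain ⟨e, C, -, hC, hsum, -, hdeg, he⟩ := indFun_inertia_abelian M φ hφ (inertia M φ) rfl
    fun x _ y _ => hab (Subgroup.commutator_mem_commutator (Subgroup.mem_top x) (Subgroup.mem_top y))
  obtain ⟨ψ, hψ, hres⟩ := hext
  have he1 : e = 1 := he ⟨ψ, hψ, fun x => hres ⟨((x : inertia M φ) : X), x.2⟩⟩
  have hmem : (χ : X → ℂ) ∈ C := by
    by_contra hno
    apply h
    have h0 : classInner (indFun M φ) (χ : X → ℂ) = 0 := by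
      rw [hsum, Chars.inner_smul_left, Chars.inner_sum_left, Finset.sum_eq_zero, mul_zero]
      intro η hη
      rw [Chars.inner_irr_of_isIrr (hC η hη) χ.2, if_neg]
      intro e
      exact hno (e ▸ hη)
    rw [Chars.inner_indFun M φ (Chars.isClassFunction_irr χ)] at h0
    rw [conj_inner (Chars.isCharacter_of_irr hφ)
      (Chars.isCharacter_restrict M (Chars.isCharacter_of_irr χ.2))]
    exact h0
  have := hdeg _ hmem
  rw [he1, Nat.cast_one, mul_one, deg_eq, show φ 1 = ((⟨φ, hφ⟩ : IrrCharacter M) : M → ℂ) 1 from rfl,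
    deg_eq] at this
  exact_mod_cast this

/-- The inertia group of an extendible character is fixed modulo the normal subgroup. -/
theorem Data.inertia_le {γ : MulAut X} {q f : ℕ} (D : Data X γ q f) (M : Subgroup X) [M.Normal]
    (hM : ∀ m ∈ M, γ m ∈ M) (hab : commutator X ≤ M) {φ : M → ℂ} (hφ : IsIrrCharacter M φ)
    (hext : ∃ ψ : inertia M φ → ℂ, IsIrrCharacter (inertia M φ) ψ ∧
      ∀ n : M, ψ ⟨n, le_inertia M (Chars.isClassFunction_irr ⟨φ, hφ⟩) n.2⟩ = φ n)
    (hnl : (inertia M φ).index * charDegree φ ≠ 1) : inertia M φ ≤ fixMod γ M := by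
  classical
  haveI := Fintype.ofFinite M
  obtain ⟨χ₀, hχ₀⟩ := exists_over M hφ
  obtain ⟨n, hn⟩ := exists_conj_of_fixed γ M hM hφ χ₀.2 hχ₀
    (D.fixed χ₀ (by rw [over_degree M hab hφ hext χ₀ hχ₀]; exact hnl))
  set T := inertia M φ with hTdef
  obtain ⟨ψ, hψ, hres⟩ := hext
  have hMT : M ≤ T := le_inertia M (Chars.isClassFunction_irr ⟨φ, hφ⟩)
  haveI := Fintype.ofFinite (M.subgroupOf T)
  haveI := Chars.irrFintype T
  -- an automorphism fixing the character
  let γ' : MulAut X := γ * MulAut.conj n⁻¹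
  have hγ' : ∀ x, γ' x = γ (n⁻¹ * x * n) := fun x => by simp [γ', MulAut.mul_apply]
  have hM' : ∀ m ∈ M, γ' m ∈ M := fun m hm => by
    rw [hγ']
    have := (‹M.Normal›).conj_mem m hm n⁻¹
    rw [inv_inv] at this
    exact hM _ this
  have hφ' : ∀ m : M, φ (resAut γ' M hM' m) = φ m := by
    intro m
    have h := hn (conjBy M n⁻¹ m)
    have e1 : resAut γ M hM (conjBy M n⁻¹ m) = resAut γ' M hM' m := Subtype.ext (by
      change γ _ = γ' m
      rw [hγ']; congr 1; simp)
    rw [e1] at h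
    rw [h]
    congr 1
    exact Subtype.ext (by simp [mul_assoc])
  have hT : ∀ g ∈ T, γ' g ∈ T := by
    intro g hg
    rw [mem_inertia] at hg ⊢
    intro m
    obtain ⟨m₀, rfl⟩ := (resAut_bijective γ' M hM').2 m
    have e1 : conjBy M (γ' g) (resAut γ' M hM' m₀) = resAut γ' M hM' (conjBy M g m₀) :=
      Subtype.ext (by
        change γ' g * γ' m₀ * (γ' g)⁻¹ = γ' (g * m₀ * g⁻¹)
        rw [map_mul, map_mul, map_inv])
    rw [e1, hφ', hg, hφ']
  set σ := resAut γ' T hT with hσdef
  have hfix : ∀ η : T → ℂ, IsIrrCharacter T η → (∀ m : M, η ⟨m, hMT m.2⟩ = φ m) →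
      (fun t => η (σ t)) = η := by
    intro η hη hr
    have hover : classInner (fun m : M => η ⟨m, hMT m.2⟩) φ ≠ 0 := by
      rw [show (fun m : M => η ⟨m, hMT m.2⟩) = φ from funext hr, Chars.inner_irr_self ⟨φ, hφ⟩]
      exact one_ne_zero
    have hr' : ∀ m : M, η (σ ⟨m, hMT m.2⟩) = φ m := fun m => by
      rw [← hφ' m, ← hr]
      rfl
    have hover' : classInner (fun m : M => η (σ ⟨m, hMT m.2⟩)) φ ≠ 0 := by
      rw [show (fun m : M => η (σ ⟨m, hMT m.2⟩)) = φ from funext hr',
        Chars.inner_irr_self ⟨φ, hφ⟩]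
      exact one_ne_zero
    have hirr := isIrr_indFun_of_over M hMT hφ rfl hη hover
    refine indFun_injective_of_over M hMT hφ rfl
      (Chars.isIrrCharacter_comp σ (resAut_bijective γ' T hT).2 hη) hover' hη hover ?_
    funext x
    rw [← indFun_comp_aut γ' T hT η x]
    have hdeg : charDegree (indFun T η) ≠ 1 := by
      have h1 : indFun T η 1 = (((T.index * charDegree φ : ℕ)) : ℂ) := by
        rw [Chars.indFun_one_apply, show η 1 = φ 1 from hr 1,
          show φ 1 = ((⟨φ, hφ⟩ : IrrCharacter M) : M → ℂ) 1 from rfl, deg_eq, Nat.cast_mul]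
      have h2 := h1
      rw [show indFun T η 1 = ((⟨_, hirr⟩ : IrrCharacter X) : X → ℂ) 1 from rfl, deg_eq] at h2
      have h3 : charDegree (indFun T η) = T.index * charDegree φ := by exact_mod_cast h2
      rw [h3]; exact hnl
    refine (D.fixed ⟨_, hirr⟩ hdeg _).trans ?_
    exact Chars.isClassFunction_indFun T η x n⁻¹
  have hψσ := hfix ψ hψ hres
  have hψN : IsIrrCharacter (M.subgroupOf T) (fun x : M.subgroupOf T => ψ x) := by
    have e : (fun x : M.subgroupOf T => ψ x) = pullFn M T φ :=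
      funext fun x => hres ⟨((x : T) : X), x.2⟩
    rw [e]
    exact isIrr_pullFn M hMT hφ
  intro t ht
  have key : σ ⟨t, ht⟩ * (⟨t, ht⟩ : T)⁻¹ ∈ M.subgroupOf T := by
    by_contra hno
    have hcT : commutator T ≤ M.subgroupOf T := by
      rw [commutator_def, Subgroup.commutator_le]
      exact fun a _ b _ => hab (Subgroup.commutator_mem_commutator (Subgroup.mem_top (a : X))
        (Subgroup.mem_top (b : X)))
    obtain ⟨μ, hμM, hμ⟩ := exists_hom_ne_one (M.subgroupOf T) hcT hno
    apply hμ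
    have hirr := Chars.isIrrCharacter_linear_mul μ hψ
    have h1 := hfix _ hirr fun m => by
      rw [hμM ⟨m, hMT m.2⟩ m.2, Units.val_one, one_mul, hres]
    set δ : T →* ℂˣ := μ.comp σ * μ⁻¹ with hδ
    have h2 : ∀ s : T, (δ s : ℂ) * ψ s = ψ s := fun s => by
      have a := congrFun h1 s
      have b := congrFun hψσ s
      rw [b] at a
      rw [hδ, MonoidHom.mul_apply, MonoidHom.inv_apply, Units.val_mul, mul_comm (μ.comp σ s : ℂ),
        mul_assoc, MonoidHom.comp_apply, a, ← mul_assoc, ← Units.val_mul, inv_mul_cancel,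
        Units.val_one, one_mul]
    have hδM : ∀ m ∈ M.subgroupOf T, δ m = 1 := fun m hm => by
      have hσm : σ m ∈ M.subgroupOf T := by
        change γ' (m : X) ∈ M
        exact hM' _ hm
      simp [hδ, hμM m hm, hμM _ hσm]
    let β : IrrCharacter T := ⟨_, Chars.isIrrCharacter_linear δ⟩
    have hβ : β ∈ quotIrr (M.subgroupOf T) := by
      rw [mem_quotIrr]
      intro m hm
      rw [mem_charKer]
      change (δ m : ℂ) = (δ 1 : ℂ)
      rw [hδM m hm, map_one]
    have h1' : Chars.principal T ∈ quotIrr (M.subgroupOf T) := (mem_quotIrr _).2 fun x _ => rfl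
    have horth := gallagher_orthonormal (M.subgroupOf T) hψ hψN hβ h1'
    rw [show (β : T → ℂ) * ψ = ψ from funext h2,
      show (Chars.principal T : T → ℂ) * ψ = ψ from funext fun s => one_mul _,
      Chars.inner_irr_self ⟨ψ, hψ⟩] at horth
    have hβ1 : β = Chars.principal T := by
      by_contra hne
      rw [if_neg hne] at horth
      exact one_ne_zero horth
    have h3 : (δ ⟨t, ht⟩ : ℂ) = 1 := congrFun (congrArg Subtype.val hβ1) _
    rw [map_mul, map_inv]
    exact Units.ext h3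
  have hkey : γ' t * t⁻¹ ∈ M := key
  rw [mem_fixMod]
  have hc : n⁻¹ * t * n * t⁻¹ ∈ M := by
    have := hab (Subgroup.commutator_mem_commutator (Subgroup.mem_top n⁻¹) (Subgroup.mem_top t))
    rwa [commutatorElement_def, inv_inv] at this
  have e : γ t * t⁻¹ = (γ (n⁻¹ * t * n * t⁻¹))⁻¹ * (γ' t * t⁻¹) := by
    rw [hγ']; simp [mul_assoc]
  rw [e]
  exact M.mul_mem (M.inv_mem (hM _ hc)) hkey

/-- The action on the linear characters of a normal subgroup. -/
def dual (M : Subgroup X) [M.Normal] : X →* Monoid.End (M →* ℂˣ) where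
  toFun x :=
    { toFun := fun μ => μ.comp (conjBy M x⁻¹)
      map_one' := rfl
      map_mul' := fun _ _ => rfl }
  map_one' := MonoidHom.ext fun μ => MonoidHom.ext fun m => congrArg μ (Subtype.ext (by simp))
  map_mul' a b := MonoidHom.ext fun μ => MonoidHom.ext fun m =>
    congrArg μ (Subtype.ext (by simp [mul_assoc]))

theorem dual_apply (M : Subgroup X) [M.Normal] (x : X) (μ : M →* ℂˣ) (m : M) :
    dual M x μ m = μ (conjBy M x⁻¹ m) := rfl

theorem dual_mul_apply (M : Subgroup X) [M.Normal] (x y : X) (μ : M →* ℂˣ) :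
    dual M (x * y) μ = dual M x (dual M y μ) := by rw [map_mul]; rfl

theorem dual_eq_iff (M : Subgroup X) [M.Normal] (x : X) (μ : M →* ℂˣ) :
    dual M x μ = μ ↔ x ∈ inertia M (linFun μ) := by
  rw [← inv_mem_iff (H := inertia M (linFun μ)), mem_inertia]
  exact ⟨fun h m => congrArg Units.val (DFunLike.congr_fun h m),
    fun h => MonoidHom.ext fun m => Units.ext (h m)⟩

theorem mem_ker_dual (M : Subgroup X) [M.Normal] {x : X} :
    x ∈ (dual M).ker ↔ ∀ μ : M →* ℂˣ, dual M x μ = μ :=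
  ⟨fun h μ => by rw [MonoidHom.mem_ker.1 h]; rfl,
    fun h => MonoidHom.mem_ker.2 (MonoidHom.ext h)⟩

theorem le_ker_dual (M : Subgroup X) [M.Normal] : M ≤ (dual M).ker := fun a ha =>
  (mem_ker_dual M).2 fun μ => MonoidHom.ext fun m => by
    rw [dual_apply, show conjBy M a⁻¹ m = (⟨a, ha⟩ : M)⁻¹ * m * ⟨a, ha⟩ from Subtype.ext (by simp),
      map_mul, map_mul, map_inv, mul_right_comm, inv_mul_cancel, one_mul]

theorem commute_dual (M : Subgroup X) [M.Normal] (hab : commutator X ≤ M) (x y : X) :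
    Commute (dual M x) (dual M y) := by
  have hc := le_ker_dual M (hab (Subgroup.commutator_mem_commutator (Subgroup.mem_top x)
    (Subgroup.mem_top y)))
  rw [MonoidHom.mem_ker] at hc
  change dual M x * dual M y = dual M y * dual M x
  rw [← map_mul, ← map_mul, show x * y = ⁅x, y⁆ * (y * x) by rw [commutatorElement_def]; group,
    map_mul, hc, one_mul]

theorem dual_comm (M : Subgroup X) [M.Normal] (hab : commutator X ≤ M) (x y : X) (μ : M →* ℂˣ) :
    dual M x (dual M y μ) = dual M y (dual M x μ) :=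
  DFunLike.congr_fun (commute_dual M hab x y).eq μ

/-- Precomposition of linear characters with an automorphism. -/
def pull (γ : MulAut X) (M : Subgroup X) (hM : ∀ m ∈ M, γ m ∈ M) : Monoid.End (M →* ℂˣ) where
  toFun μ := μ.comp (resAut γ M hM)
  map_one' := rfl
  map_mul' _ _ := rfl

theorem pull_dual (γ : MulAut X) (M : Subgroup X) [M.Normal] (hM : ∀ m ∈ M, γ m ∈ M) (x : X)
    (μ : M →* ℂˣ) : pull γ M hM (dual M (γ x) μ) = dual M x (pull γ M hM μ) :=
  MonoidHom.ext fun m => congrArg μ (Subtype.ext (by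
    change (γ x)⁻¹ * γ m * (γ x)⁻¹⁻¹ = γ (x⁻¹ * m * x⁻¹⁻¹)
    simp))

section Abstract

/-- Stabilisers of moved points coincide when inclusion forces equality. -/
theorem stab_eq {ι E : Type*} [CommGroup E] (a : ι → E →* E)
    (hcomm : ∀ i j e, a i (a j e) = a j (a i e))
    (hfix : ∀ i v, (∀ j, a j (a i v / v) = a i v / v) → a i v = v)
    (hanti : ∀ v w, (∃ i, a i v ≠ v) → (∃ i, a i w ≠ w) → (∀ i, a i v = v → a i w = w) →
      ∀ i, a i w = w → a i v = v)
    {v w : E} (hv : ∃ i, a i v ≠ v) (hw : ∃ i, a i w ≠ w) {i : ι} (h : a i v = v) :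
    a i w = w := by
  by_contra hne
  have hu : ∃ j, a j (a i w / w) ≠ a i w / w := by
    by_contra hno
    push Not at hno
    exact hne (hfix i w hno)
  have e1 : a i (v * w) / (v * w) = a i w / w := by
    rw [map_mul, h]; exact mul_div_mul_left_eq_div _ _ _
  have h1 : ∀ z, (∀ k, a k z = z → a k (a i z / z) = a i z / z) := fun z k hk => by
    rw [map_div, hcomm, hk]
  have hvw : ∃ j, a j (v * w) ≠ v * w := by
    obtain ⟨j, hj⟩ := hu
    refine ⟨j, fun hc => hj ?_⟩
    rw [← e1]; exact h1 _ j hc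
  -- whatever fixes `v * w` fixes `w`, hence `v`
  have h2 : ∀ k, a k (v * w) = v * w → a k v = v := by
    intro k hk
    have hk' : a k (a i w / w) = a i w / w := by rw [← e1]; exact h1 _ k hk
    have hkw : a k w = w := hanti w _ hw hu (fun l hl => h1 w l hl) k hk'
    rw [map_mul, hkw] at hk
    exact mul_right_cancel hk
  have h3 := hanti _ v hvw hv h2 i h
  rw [map_mul, h] at h3
  exact hne (mul_left_cancel h3)

/-- Two commuting operators of order `q` moving all points outside `P` can not be independent. -/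
theorem pow_mem_of_free {E : Type*} [CommGroup E] {b c : Monoid.End E} (hbc : Commute b c)
    {q : ℕ} (hq : q.Prime) {e : E} (hb : (b ^ q) e = e) (hc : (c ^ q) e = e) (P : Subgroup E)
    (hP : ∀ u ∈ P, b u = u) (h1 : ∀ u, c u = u → u ∈ P)
    (h2 : ∀ (k : ℕ) u, (b * c ^ k) u = u → u ∈ P) : e ^ q ∈ P := by
  have hcy : ∀ (d : Monoid.End E), (d ^ q) e = e →
      d (∏ i ∈ Finset.range q, (d ^ i) e) = ∏ i ∈ Finset.range q, (d ^ i) e := by
    intro d hd
    rw [map_prod]
    have hd1 : ∀ i, d ((d ^ i) e) = (d ^ (i + 1)) e := fun i => by rw [pow_succ']; rfl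
    simp only [hd1]
    have A := Finset.prod_range_succ (fun i => (d ^ i) e) q
    have B := Finset.prod_range_succ' (fun i => (d ^ i) e) q
    rw [A] at B
    simp only [hd, pow_zero] at B
    exact (mul_right_cancel B).symm
  set N := ∏ j ∈ Finset.range q, (c ^ j) e with hN
  have hNP : N ∈ P := h1 _ (hcy c hc)
  have hPk : ∀ k, ∏ i ∈ Finset.range q, ((b * c ^ k) ^ i) e ∈ P := fun k => h2 k _ (hcy _ (by
    rw [(hbc.pow_right k).mul_pow, ← pow_mul, mul_comm k, pow_mul]
    change (b ^ q) (((c ^ q) ^ k) e) = e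
    have : ∀ j, ((c ^ q) ^ j) e = e := by
      intro j
      induction j with
      | zero => rfl
      | succ j ih => rw [pow_succ']; change (c ^ q) (((c ^ q) ^ j) e) = e; rw [ih, hc]
    rw [this, hb]))
  have hcmod : ∀ j, (c ^ j) e = (c ^ (j % q)) e := by
    intro j
    conv_lhs => rw [← Nat.mod_add_div j q, pow_add, pow_mul]
    change (c ^ (j % q)) (((c ^ q) ^ (j / q)) e) = _
    congr 1
    induction j / q with
    | zero => rfl
    | succ j ih => rw [pow_succ']; change (c ^ q) (((c ^ q) ^ j) e) = e; rw [ih, hc]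
  have hrow : ∀ i ∈ Finset.range q, i ≠ 0 →
      ∏ k ∈ Finset.range q, ((b * c ^ k) ^ i) e ∈ P := by
    intro i hi hi0
    rw [Finset.mem_range] at hi
    have e1 : ∀ k, ((b * c ^ k) ^ i) e = (b ^ i) ((c ^ ((k * i) % q)) e) := fun k => by
      rw [(hbc.pow_right k).mul_pow, ← pow_mul, ← hcmod]; rfl
    simp only [e1, ← map_prod]
    have hinj : Set.InjOn (fun k => k * i % q) ↑(Finset.range q) := by
      intro k hk l hl (h : k * i % q = l * i % q)
      simp only [Finset.coe_range, Set.mem_Iio] at hk hl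
      have hcop : Nat.Coprime q i := (Nat.Prime.coprime_iff_not_dvd hq).2
        fun hd => absurd (Nat.le_of_dvd (Nat.pos_of_ne_zero hi0) hd) (not_le.2 hi)
      have : k ≡ l [MOD q] := Nat.ModEq.cancel_right_of_coprime hcop h
      rwa [Nat.ModEq, Nat.mod_eq_of_lt hk, Nat.mod_eq_of_lt hl] at this
    have himg : (Finset.range q).image (fun k => k * i % q) = Finset.range q :=
      Finset.eq_of_subset_of_card_le
        (fun j hj => by
          obtain ⟨k, -, rfl⟩ := Finset.mem_image.1 hj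
          exact Finset.mem_range.2 (Nat.mod_lt _ hq.pos))
        (by rw [Finset.card_image_of_injOn hinj])
    rw [← Finset.prod_image (f := fun j => (c ^ j) e) hinj, himg, ← hN]
    have : ∀ j, (b ^ j) N = N := by
      intro j
      induction j with
      | zero => rfl
      | succ j ih => rw [pow_succ]; change (b ^ j) (b N) = N; rw [hP N hNP, ih]
    rw [this]
    exact hNP
  have htot : ∏ i ∈ Finset.range q, ∏ k ∈ Finset.range q, ((b * c ^ k) ^ i) e ∈ P := by
    rw [Finset.prod_comm]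
    exact P.prod_mem fun k _ => hPk k
  rw [← Finset.mul_prod_erase _ _ (Finset.mem_range.2 hq.pos)] at htot
  have h0 : ∏ k ∈ Finset.range q, ((b * c ^ k) ^ 0) e = e ^ q := by
    simp
  rw [h0] at htot
  refine (P.mul_mem_cancel_right (P.prod_mem fun i hi => ?_)).1 htot
  exact hrow i (Finset.mem_of_mem_erase hi) (Finset.ne_of_mem_erase hi)

end Abstract

end CfsgLib.DegreeAntichain
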