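import Cfsg.Agent.Lib.DegreeAntichain.Kern
import Cfsg.Agent.Lib.CharApps.Palfy.ClassTwo
import Cfsg.Agent.Lib.Base.Nilpotent

/-!
The minimal non-abelian kernel: a group of class two with a faithful pairing.
-/

set_option autoImplicit false
set_option linter.unusedSectionVars false

namespace CfsgLib.DegreeAntichain

open Cfsg CfsgLib.CharsMore CfsgLib.CharApps
open scoped commutatorElement

universe u

variable {X : Type u} [Group X] [Fintype X] {γ : MulAut X} {q f : ℕ}

theorem map_mem_commutator {G H : Type*} [Group G] [Group H] (φ : G →* H) {g : G}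
    (hg : g ∈ commutator G) : φ g ∈ commutator H := by
  have h := Subgroup.mem_map_of_mem φ hg
  rw [commutator_def, Subgroup.map_commutator] at h
  exact Subgroup.commutator_mono le_top le_top h

/-- Conjugation on the derived subgroup of a normal subgroup. -/
def comConj (R : Subgroup X) [R.Normal] (y : X) : commutator R →* commutator R :=
  ((conjBy R y).comp (commutator R).subtype).codRestrict _ fun z =>
    map_mem_commutator (conjBy R y) z.2

theorem coe_comConj (R : Subgroup X) [R.Normal] (y : X) (z : commutator R) :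
    ((comConj R y z : commutator R) : R) = conjBy R y (z : R) := rfl

/-- The action on the linear characters of the derived subgroup. -/
def dualC (R : Subgroup X) [R.Normal] : X →* Monoid.End (commutator R →* ℂˣ) where
  toFun y :=
    { toFun := fun μ => μ.comp (comConj R y⁻¹)
      map_one' := rfl
      map_mul' := fun _ _ => rfl }
  map_one' := MonoidHom.ext fun μ => MonoidHom.ext fun z =>
    congrArg μ (Subtype.ext (Subtype.ext (by simp [coe_comConj])))
  map_mul' a b := MonoidHom.ext fun μ => MonoidHom.ext fun z =>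
    congrArg μ (Subtype.ext (Subtype.ext (by simp [coe_comConj, mul_assoc])))

theorem dualC_apply (R : Subgroup X) [R.Normal] (y : X) (μ : commutator R →* ℂˣ)
    (z : commutator R) : dualC R y μ z = μ (comConj R y⁻¹ z) := rfl

theorem dualC_mul_apply (R : Subgroup X) [R.Normal] (a b : X) (μ : commutator R →* ℂˣ) :
    dualC R (a * b) μ = dualC R a (dualC R b μ) := by rw [map_mul]; rfl

/-- The stabiliser of a linear character of the derived subgroup. -/
def stabC (R : Subgroup X) [R.Normal] (μ : commutator R →* ℂˣ) : Subgroup X where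
  carrier := {y | dualC R y μ = μ}
  one_mem' := by simp
  mul_mem' {a b} ha hb := by
    change dualC R (a * b) μ = μ
    rw [dualC_mul_apply, show dualC R b μ = μ from hb, show dualC R a μ = μ from ha]
  inv_mem' {a} ha := by
    change dualC R a⁻¹ μ = μ
    conv_lhs => rw [← show dualC R a μ = μ from ha]
    rw [← dualC_mul_apply, inv_mul_cancel, map_one]
    rfl

theorem mem_stabC (R : Subgroup X) [R.Normal] {μ : commutator R →* ℂˣ} {y : X} :
    y ∈ stabC R μ ↔ ∀ z, μ (comConj R y z) = μ z := by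
  rw [← inv_mem_iff (H := stabC R μ)]
  change dualC R y⁻¹ μ = μ ↔ _
  refine ⟨fun h z => ?_, fun h => MonoidHom.ext fun z => ?_⟩
  · have h2 := DFunLike.congr_fun h z
    rwa [dualC_apply, inv_inv] at h2
  · rw [dualC_apply, inv_inv, h]

variable {R : Subgroup X} [R.Normal] {x : X}

theorem hom_eq_one_of_mem_commutator {G : Type*} [Group G] (e : G →* ℂˣ) {z : G}
    (hz : z ∈ commutator G) : e z = 1 :=
  MonoidHom.mem_ker.1 (Abelianization.commutator_subset_ker e hz)

/-- Elements outside the kernel fix no non-trivial element of the abelianization. -/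
theorem Kern.fpf_abelianization (K : Kern γ q R x) (D : Data X γ q f) {g : X}
    (hg : g ∉ (dual R).ker) {r : R} (hr : conjBy R g r * r⁻¹ ∈ commutator R) :
    r ∈ commutator R := by
  by_contra hno
  obtain ⟨e, -, he⟩ := exists_hom_ne_one (commutator R) le_rfl hno
  have hinj : Function.Injective fun e : R →* ℂˣ => dual R g⁻¹ e / e := by
    intro a b h
    have h1 : dual R g⁻¹ (a / b) = a / b :=
      (map_div (dual R g⁻¹ : (R →* ℂˣ) →* (R →* ℂˣ)) a b).trans (div_eq_div_iff_div_eq_div.1 h)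
    by_contra hne
    exact hg (inv_inv g ▸ Subgroup.inv_mem _
      (K.dual_fix D (fun h2 => hne (div_eq_one.1 h2)) h1))
  obtain ⟨e', rfl⟩ := (Finite.injective_iff_surjective.1 hinj) e
  apply he
  have h := hom_eq_one_of_mem_commutator e' hr
  rw [map_mul, map_inv] at h
  change (dual R g⁻¹ e') r / e' r = 1
  rw [dual_apply, inv_inv, div_eq_mul_inv]
  exact h

/-- The kernel acts trivially on the abelianization. -/
theorem ker_dual_mod {k : X} (hk : k ∈ (dual R).ker) (u : R) :
    conjBy R k u * u⁻¹ ∈ commutator R := by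
  by_contra hno
  obtain ⟨e, -, he⟩ := exists_hom_ne_one (commutator R) le_rfl hno
  apply he
  have h := DFunLike.congr_fun ((mem_ker_dual R).1 (Subgroup.inv_mem _ hk) e) u
  rw [dual_apply, inv_inv] at h
  rw [map_mul, map_inv, h, mul_inv_cancel]

/-- The kernel centralises the derived subgroup when the class is two. -/
theorem ker_dual_centralizes (hc : commutator R ≤ Subgroup.center R) {k : X}
    (hk : k ∈ (dual R).ker) {z : R} (hz : z ∈ commutator R) : conjBy R k z = z := by
  let F : Subgroup R :=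
    { carrier := {z | conjBy R k z = z}
      one_mem' := map_one _
      mul_mem' := fun {a b} ha hb => by
        change conjBy R k (a * b) = a * b
        rw [map_mul, show conjBy R k a = a from ha, show conjBy R k b = b from hb]
      inv_mem' := fun {a} ha => by
        change conjBy R k a⁻¹ = a⁻¹
        rw [map_inv, show conjBy R k a = a from ha] }
  have hle : commutator R ≤ F := by
    rw [commutator_def, Subgroup.commutator_le]
    intro u _ v _
    change conjBy R k ⁅u, v⁆ = ⁅u, v⁆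
    have h1 : ∀ w : R, w ∈ commutator R → ∀ y : R, ⁅w, y⁆ = 1 := fun w hw y =>
      commutatorElement_eq_one_iff_mul_comm.2 (Subgroup.mem_center_iff.1 (hc hw) y).symm
    obtain ⟨a, ha, hau⟩ : ∃ a ∈ commutator R, conjBy R k u = a * u :=
      ⟨_, ker_dual_mod hk u, (inv_mul_cancel_right _ u).symm⟩
    obtain ⟨b, hb, hbv⟩ : ∃ b ∈ commutator R, conjBy R k v = b * v :=
      ⟨_, ker_dual_mod hk v, (inv_mul_cancel_right _ v).symm⟩
    rw [map_commutatorElement, hau, hbv, Palfy.commutator_left hc, h1 a ha, one_mul,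
      Palfy.commutator_right hc,
      show ⁅u, b⁆ = 1 by rw [← commutatorElement_inv, h1 b hb, inv_one], one_mul]
  exact hle hz

/-- In the minimal case the kernel is a `p`-group of class two with derived subgroup of exponent
`p`. -/
theorem exists_structure (K : Kern γ q R x) [Group.IsNilpotent R] (hne : commutator R ≠ ⊥)
    (hmin : ∀ T : Subgroup R, (∀ σ : R →* R, Function.Bijective σ → ∀ z ∈ T, σ z ∈ T) →
      T ≠ ⊥ → commutator R ≤ T) :
    commutator R ≤ Subgroup.center R ∧ ∃ p : ℕ, p.Prime ∧ IsPGroup p R ∧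
      ∀ z ∈ commutator R, z ^ p = 1 := by
  classical
  have hc : commutator R ≤ Subgroup.center R := by
    refine le_trans (hmin (commutator R ⊓ Subgroup.center R) (fun σ hσ z hz =>
      ⟨map_mem_commutator σ hz.1, Subgroup.mem_center_iff.2 fun w => ?_⟩)
      (Base.inf_center_ne_bot_of_isNilpotent hne)) inf_le_right
    obtain ⟨w, rfl⟩ := hσ.2 w
    rw [← map_mul, ← map_mul, Subgroup.mem_center_iff.1 hz.2 w]
  obtain ⟨p, hp, hpd⟩ := Nat.exists_prime_and_dvd
    (fun h => hne ((Subgroup.eq_bot_iff_card _).2 h) : Nat.card (commutator R) ≠ 1)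
  haveI := Fact.mk hp
  let Ω : Subgroup R :=
    { carrier := {z | z ∈ commutator R ∧ z ^ p = 1}
      one_mem' := ⟨one_mem _, one_pow p⟩
      mul_mem' := fun {a b} ha hb => ⟨mul_mem ha.1 hb.1, by
        rw [(show Commute a b from Subgroup.mem_center_iff.1 (hc hb.1) a).mul_pow, ha.2, hb.2,
          one_mul]⟩
      inv_mem' := fun {a} ha => ⟨inv_mem ha.1, by rw [inv_pow, ha.2, inv_one]⟩ }
  obtain ⟨⟨z₀, hz₀⟩, hz₀o⟩ := exists_prime_orderOf_dvd_card' p hpd
  have hz₀p : z₀ ^ p = 1 := by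
    have := pow_orderOf_eq_one (⟨z₀, hz₀⟩ : commutator R)
    rw [hz₀o] at this
    exact congrArg Subtype.val this
  have hz₀1 : z₀ ≠ 1 := fun h => hp.one_lt.ne (by
    rw [← hz₀o, orderOf_eq_one_iff.2 (Subtype.ext h)])
  have hexp : ∀ z ∈ commutator R, z ^ p = 1 := fun z hz =>
    (hmin Ω (fun σ _ w hw => ⟨map_mem_commutator σ hw.1, by rw [← map_pow, hw.2, map_one]⟩)
      (fun h => hz₀1 (Subgroup.mem_bot.1 (h.le ⟨hz₀, hz₀p⟩))) hz).2
  refine ⟨hc, p, hp, IsPGroup.of_card (n := (Nat.card R).primeFactorsList.length) ?_, hexp⟩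
  have hcard0 : Nat.card R ≠ 0 := Nat.card_pos.ne'
  exact Nat.eq_prime_pow_of_unique_prime_dvd hcard0 (p := p) (fun {r} hr hd => by
    by_contra hrp
    haveI := Fact.mk hr
    obtain ⟨P⟩ : Nonempty (Sylow r R) := inferInstance
    haveI : (P : Subgroup R).Normal := inferInstance
    haveI := Sylow.unique_of_normal P inferInstance
    have hPne : (P : Subgroup R) ≠ ⊥ := fun h => hd.elim fun c hc' => by
      have h1 := P.not_dvd_index
      rw [h, Subgroup.index_bot] at h1
      exact h1 hd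
    have hle := hmin P (fun σ _ w hw => by
      obtain ⟨P', hP'⟩ := (P.2.map σ).exists_le_sylow
      exact (Subsingleton.elim P' P) ▸ hP' (Subgroup.mem_map_of_mem σ hw)) hPne
    obtain ⟨j, hj⟩ := P.2 ⟨z₀, hle hz₀⟩
    have hj' : z₀ ^ r ^ j = 1 := congrArg Subtype.val hj
    have h1 := pow_gcd_eq_one.2 ⟨hz₀p, hj'⟩
    rw [show Nat.gcd p (r ^ j) = 1 from
      Nat.Coprime.pow_right j ((Nat.coprime_primes hp hr).2 (Ne.symm hrp)), pow_one] at h1
    exact hz₀1 h1)

/-- A character over an extendible character of the derived subgroup has large inertia group. -/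
theorem Kern.inertia_not_le (K : Kern γ q R x) (D : Data X γ q f) {p : ℕ} (hp : p.Prime)
    (hP : IsPGroup p R) {e₀ : R →* ℂˣ} (he₀ : e₀ ≠ 1) {μ : commutator R →* ℂˣ} (hμ : μ ≠ 1)
    (φ : IrrCharacter R) (hφ : ∀ z : commutator R, (φ : R → ℂ) z = (φ : R → ℂ) 1 * (μ z : ℂ)) :
    ¬ inertia R (φ : R → ℂ) ≤ (dual R).ker := by
  classical
  haveI := Fintype.ofFinite R
  intro hle
  have hd := Palfy.dvd_degree hp hP hμ φ hφ
  obtain ⟨χ, hχ⟩ := exists_over R φ.2
  obtain ⟨ξ, hξ⟩ := exists_over R (isIrrCharacter_linFun e₀)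
  have hξd : charDegree (ξ : X → ℂ) = (dual R).ker.index := by
    rw [over_degree R K.le_comm (isIrrCharacter_linFun e₀)
      (Palfy.exists_ext_linear (K.isComplement D.prime) e₀) ξ hξ, charDegree_linFun, mul_one,
      K.inertia_eq D he₀]
  have hξ1 : charDegree (ξ : X → ℂ) ≠ 1 := by
    rw [hξd, ← K.inertia_eq D he₀]
    exact (moved_iff R e₀).1 (K.moved he₀)
  have hχd := clifford_degree R χ.2 φ.2 hχ
  rw [inner_eq_multNat (Chars.isCharacter_restrict R (Chars.isCharacter_of_irr χ.2))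
    (Chars.isCharacter_of_irr φ.2), deg_eq, deg_eq] at hχd
  have hχd' : charDegree (χ : X → ℂ) = multNat (fun n : R => (χ : X → ℂ) n) (φ : R → ℂ) *
      (inertia R (φ : R → ℂ)).index * charDegree (φ : R → ℂ) := by exact_mod_cast hχd
  have hdiv : (dual R).ker.index * charDegree (φ : R → ℂ) ∣ charDegree (χ : X → ℂ) := by
    rw [hχd']
    exact Nat.mul_dvd_mul_right ((Subgroup.index_dvd_of_le hle).mul_left _) _
  have hφ1 : charDegree (φ : R → ℂ) ≠ 1 := fun h => hp.not_dvd_one (h ▸ hd)
  have hχ1 : charDegree (χ : X → ℂ) ≠ 1 := fun h =>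
    hφ1 (Nat.eq_one_of_mul_eq_one_left (Nat.dvd_one.1 (h ▸ hdiv)))
  have heq := D.anti ξ χ hξ1 hχ1 (by rw [hξd]; exact dvd_trans (dvd_mul_right _ _) hdiv)
  rw [← heq, hξd] at hdiv
  exact hφ1 (Nat.dvd_one.1 ((Nat.mul_dvd_mul_iff_left
    (Nat.pos_of_ne_zero Subgroup.index_ne_zero_of_finite)).1 (by rwa [mul_one])))

/-- The pairing of a non-trivial character of the derived subgroup has radical the derived
subgroup. -/
theorem Kern.radical_eq (K : Kern γ q R x) (D : Data X γ q f) [Fintype R]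
    (hc : commutator R ≤ Subgroup.center R) {p : ℕ} (hp : p.Prime) (hP : IsPGroup p R)
    {e₀ : R →* ℂˣ} (he₀ : e₀ ≠ 1) {μ : commutator R →* ℂˣ} (hμ : μ ≠ 1) :
    Palfy.radical hc μ = commutator R := by
  classical
  set rad := Palfy.radical hc μ with hrad
  have hcr : commutator R ≤ rad := Palfy.commutator_le_radical hc μ
  refine le_antisymm (fun z₁ hz₁ => ?_) hcr
  by_contra hz₁c
  let Fixes : (rad →* ℂˣ) → X → Prop := fun η g =>
    ∀ r : rad, ∃ h : conjBy R g r ∈ rad, η ⟨_, h⟩ = η r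
  let Ext : (rad →* ℂˣ) → Prop := fun η => ∀ z : commutator R, η ⟨z, hcr z.2⟩ = μ z
  -- every extension is fixed outside the kernel
  have hfix : ∀ η, Ext η → ∃ g, g ∉ (dual R).ker ∧ Fixes η g := by
    intro η hη
    obtain ⟨φ, hφμ, hφη, hφ0⟩ := Palfy.exists_over_ext hc η hη
    obtain ⟨g, hg, hgK⟩ := SetLike.not_le_iff_exists.1 (K.inertia_not_le D hp hP he₀ hμ φ hφμ)
    refine ⟨g, hgK, fun r => ?_⟩
    have h1 := (mem_inertia R).1 hg (r : R)
    rw [hφη r] at h1
    have hne : (φ : R → ℂ) 1 * (η r : ℂ) ≠ 0 :=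
      mul_ne_zero (Chars.irr_degree_ne_zero φ.2) (Units.ne_zero _)
    have hmem : conjBy R g (r : R) ∈ rad := by
      by_contra hno
      exact hne (h1.symm.trans (hφ0 _ hno))
    refine ⟨hmem, Units.ext ?_⟩
    have h2 := hφη ⟨_, hmem⟩
    rw [h2] at h1
    exact mul_left_cancel₀ (Chars.irr_degree_ne_zero φ.2) h1
  -- an element outside the kernel fixes at most one extension
  have huniq : ∀ g, g ∉ (dual R).ker → ∀ η η', Ext η → Ext η' → Fixes η g → Fixes η' g →
      η = η' := by
    intro g hg η η' hη hη' hf hf'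
    let W : Subgroup (Abelianization R) := rad.map Abelianization.of
    let c : Abelianization R → Abelianization R := fun a => Abelianization.map (conjBy R g) a / a
    have hcof : ∀ r : R, c (Abelianization.of r) = Abelianization.of (conjBy R g r * r⁻¹) :=
      fun r => by
        simp only [c, Abelianization.map_of, map_mul, map_inv, div_eq_mul_inv]
    have hker : ∀ r : R, Abelianization.of r = 1 ↔ r ∈ commutator R := fun r =>
      QuotientGroup.eq_one_iff r
    have hcW : ∀ w ∈ W, c w ∈ W := by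
      rintro _ ⟨r, hr, rfl⟩
      rw [hcof]
      exact Subgroup.mem_map_of_mem _ (mul_mem (hf ⟨r, hr⟩).1 (inv_mem hr))
    have hinj : Function.Injective c := by
      intro a b h
      have h1 : Abelianization.map (conjBy R g) (a / b) = a / b := by
        rw [map_div]; exact div_eq_div_iff_div_eq_div.1 h
      obtain ⟨r, hr⟩ := QuotientGroup.mk_surjective (a / b)
      have hr' : Abelianization.of r = a / b := hr
      rw [← hr', Abelianization.map_of] at h1
      have h2 : conjBy R g r * r⁻¹ ∈ commutator R := by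
        rw [← hker, map_mul, map_inv, h1, mul_inv_cancel]
      exact div_eq_one.1 (hr' ▸ (hker r).2 (K.fpf_abelianization D hg h2))
    let cW : W → W := fun w => ⟨c w, hcW w w.2⟩
    have hcWinj : Function.Injective cW := fun a b h =>
      Subtype.ext (hinj (congrArg Subtype.val h))
    refine MonoidHom.ext fun r => ?_
    obtain ⟨⟨_, s, hs, rfl⟩, hw⟩ := (Finite.injective_iff_surjective.1 hcWinj)
      ⟨Abelianization.of (r : R), Subgroup.mem_map_of_mem _ r.2⟩
    have h1 : c (Abelianization.of s) = Abelianization.of (r : R) := congrArg Subtype.val hw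
    obtain ⟨hgs, hηs⟩ := hf ⟨s, hs⟩
    obtain ⟨hgs', hηs'⟩ := hf' ⟨s, hs⟩
    have hz : (conjBy R g s * s⁻¹)⁻¹ * (r : R) ∈ commutator R := by
      rw [hcof] at h1
      rw [← hker, map_mul, map_inv, h1, inv_mul_cancel]
    have hr : r = (⟨conjBy R g s, hgs⟩ * (⟨s, hs⟩ : rad)⁻¹ : rad) *
        ⟨(conjBy R g s * s⁻¹)⁻¹ * (r : R), hcr hz⟩ := Subtype.ext (by simp [mul_assoc])
    rw [hr, map_mul, map_mul, map_inv, hηs, mul_inv_cancel, one_mul, map_mul, map_mul, map_inv,
      hηs', mul_inv_cancel, one_mul]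
    exact (hη ⟨_, hz⟩).trans (hη' ⟨_, hz⟩).symm
  obtain ⟨η₁, hη₁⟩ := Palfy.exists_radical_ext hc μ
  obtain ⟨δ, hδ, hδz⟩ := exists_hom_ne_one (commutator R) le_rfl hz₁c
  let η₂ : rad →* ℂˣ := η₁ * δ.comp rad.subtype
  have hη₂ : Ext η₂ := fun z => by
    change η₁ ⟨(z : R), _⟩ * δ (z : R) = μ z
    rw [hη₁ z, hδ _ z.2, mul_one]
  have h12 : η₁ ≠ η₂ := fun h => hδz (by
    have h2 := DFunLike.congr_fun h ⟨z₁, hz₁⟩
    change η₁ _ = η₁ _ * δ z₁ at h2
    exact left_eq_mul.1 h2)
  obtain ⟨g₁, hg₁, hf₁⟩ := hfix η₁ hη₁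
  obtain ⟨g₂, hg₂, hf₂⟩ := hfix η₂ hη₂
  let η₃ : rad →* ℂˣ := η₁.comp
    (((conjBy R g₂).comp rad.subtype).codRestrict rad fun r => (hf₂ r).1)
  have hη₃ : Ext η₃ := fun z => by
    obtain ⟨h, he⟩ := hf₂ ⟨z, hcr z.2⟩
    have e1 := hη₂ ⟨_, map_mem_commutator (conjBy R g₂) z.2⟩
    have e2 := hη₂ z
    rw [← he] at e2
    have e3 : μ ⟨_, map_mem_commutator (conjBy R g₂) z.2⟩ = μ z := e1.symm.trans e2
    exact (hη₁ ⟨_, map_mem_commutator (conjBy R g₂) z.2⟩).trans e3
  have hf₃ : Fixes η₃ g₁ := by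
    intro r
    refine ⟨(hf₁ r).1, ?_⟩
    set a : rad := ⟨conjBy R g₂ r, (hf₂ r).1⟩
    set b : rad := ⟨conjBy R g₁ (a : R), (hf₁ a).1⟩
    have hcR : ⁅g₂, g₁⁆ ∈ R :=
      K.le_comm (Subgroup.commutator_mem_commutator (Subgroup.mem_top g₂) (Subgroup.mem_top g₁))
    set c : R := ⟨⁅g₂, g₁⁆, hcR⟩
    have hm : η₁ ⟨_, hcr (Palfy.cel c (b : R)).2⟩ = 1 := by
      rw [hη₁, show Palfy.cel c (b : R) = (Palfy.cel (b : R) c)⁻¹ from
        Subtype.ext (commutatorElement_inv (b : R) c).symm, map_inv,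
        (Palfy.mem_radical hc).1 b.2 c, inv_one]
    have hb : η₁ b = η₁ a := (hf₁ a).2
    change η₁ ⟨conjBy R g₂ (conjBy R g₁ r), _⟩ = η₁ a
    rw [← hb]
    calc η₁ ⟨conjBy R g₂ (conjBy R g₁ r), _⟩ = η₁ (⟨_, hcr (Palfy.cel c (b : R)).2⟩ * b) :=
          congrArg η₁ (Subtype.ext (Subtype.ext (by
            simp [Palfy.cel, c, b, a, commutatorElement_def, mul_assoc])))
      _ = _ := by rw [map_mul, hm, one_mul]
  have h31 := huniq g₁ hg₁ η₃ η₁ hη₃ hη₁ hf₃ hf₁
  refine h12 (huniq g₂ hg₂ η₁ η₂ hη₁ hη₂ (fun r => ⟨(hf₂ r).1, ?_⟩) hf₂)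
  exact DFunLike.congr_fun h31 r

end CfsgLib.DegreeAntichain
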