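import Mathlib

/-!
Order of a simple module of an abelian group, and free actions.
-/

set_option autoImplicit false

namespace CfsgLib.DegreeAntichain

/-- A free action divides. -/
theorem card_dvd_of_free {A S : Type*} [Group A] [Finite A] [Finite S] [MulAction A S]
    (h : ∀ (a : A) (s : S), a • s = s → a = 1) : Nat.card A ∣ Nat.card S := by
  classical
  haveI := Fintype.ofFinite (MulAction.orbitRel.Quotient A S)
  rw [Nat.card_congr (MulAction.selfEquivSigmaOrbits A S), Nat.card_sigma]
  refine Finset.dvd_sum fun o _ => ?_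
  have hs : MulAction.stabilizer A o.out = ⊥ := eq_bot_iff.2 fun a ha => h a _ ha
  have h2 := Nat.card_congr (MulAction.orbitEquivQuotientStabilizer A o.out)
  rw [← Subgroup.index_eq_card, hs, Subgroup.index_bot] at h2
  rw [h2]

/-- A simple module for commuting operators of `x ^ p ^ n = x` has order `p ^ k` with `k ∣ n`. -/
theorem exists_card_eq_pow {p : ℕ} (hp : p.Prime) {Z : Type*} [CommGroup Z] [Finite Z]
    (hexp : ∀ z : Z, z ^ p = 1) {ι : Type*} (a : ι → Monoid.End Z)
    (hcomm : ∀ i j, a i * a j = a j * a i) {n : ℕ} (hn : ∀ i, a i ^ p ^ n = a i)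
    (hirr : ∀ W : Subgroup Z, (∀ i, ∀ w ∈ W, a i w ∈ W) → W = ⊥ ∨ W = ⊤)
    {μ : Z} (hμ : μ ≠ 1) : ∃ k, Nat.card Z = p ^ k ∧ k ∣ n := by
  classical
  haveI := Fact.mk hp
  let b : ι → AddMonoid.End (Additive Z) := fun i => MonoidHom.toAdditive (a i : Z →* Z)
  have hb : ∀ i (z : Additive Z), b i z = Additive.ofMul (a i z.toMul) := fun i z => rfl
  have hbpow : ∀ i m (z : Additive Z), (b i ^ m) z = Additive.ofMul ((a i ^ m) z.toMul) := by
    intro i m
    induction m with
    | zero => exact fun z => rfl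
    | succ m ih =>
      intro z
      rw [pow_succ, pow_succ]
      change (b i ^ m) (b i z) = _
      rw [hb, ih]
      rfl
  set R := Subring.closure (Set.range b) with hR
  letI : CommRing R := Subring.closureCommRingOfComm (by
    rintro _ ⟨i, rfl⟩ _ ⟨j, rfl⟩
    refine AddMonoidHom.ext fun z => ?_
    exact congrArg Additive.ofMul (DFunLike.congr_fun (hcomm i j) z.toMul))
  have hmem : ∀ i, b i ∈ R := fun i => Subring.subset_closure ⟨i, rfl⟩
  let ev : R →+ Additive Z :=
    { toFun := fun k => (k : AddMonoid.End (Additive Z)) (Additive.ofMul μ)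
      map_zero' := rfl
      map_add' := fun _ _ => rfl }
  have hev : ∀ k l : R, ev (k * l) = (k : AddMonoid.End (Additive Z)) (ev l) := fun k l => rfl
  have hsub : ∀ (P : AddSubgroup (Additive Z)), (∀ i, ∀ z ∈ P, b i z ∈ P) →
      ∀ w ∈ P, w ≠ 0 → ∀ z, z ∈ P := by
    intro P hP w hw hw0 z
    have h := (hirr (AddSubgroup.toSubgroup' P) fun i v hv => hP i (Additive.ofMul v) hv).resolve_left
      fun h => hw0 (by
        have h2 : w.toMul ∈ AddSubgroup.toSubgroup' P := hw
        rw [h, Subgroup.mem_bot] at h2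
        exact h2)
    have h2 : z.toMul ∈ AddSubgroup.toSubgroup' P := h ▸ Subgroup.mem_top _
    exact h2
  have hμ0 : Additive.ofMul μ ≠ 0 := hμ
  have hsurj : Function.Surjective ev := fun z =>
    hsub ev.range (by
      rintro i _ ⟨k, rfl⟩
      exact ⟨⟨b i, hmem i⟩ * k, hev _ _⟩) (Additive.ofMul μ) ⟨1, rfl⟩ hμ0 z
  have hinj : Function.Injective ev := by
    refine (injective_iff_map_eq_zero ev).2 fun k hk => Subtype.ext (AddMonoidHom.ext fun z => ?_)
    obtain ⟨l, rfl⟩ := hsurj z
    refine ((hev k l).symm.trans (congrArg ev (mul_comm k l))).trans ?_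
    refine (hev l k).trans ?_
    rw [hk, map_zero]
    rfl
  haveI : Finite R := Finite.of_injective ev hinj
  have hcard : Nat.card R = Nat.card Z :=
    (Nat.card_congr (Equiv.ofBijective ev ⟨hinj, hsurj⟩)).trans (Nat.card_congr Additive.toMul)
  haveI : Nontrivial R := by
    refine ⟨1, 0, fun h => hμ0 ?_⟩
    exact congrArg ev h
  haveI : NoZeroDivisors R := ⟨fun {k l} hkl => by
    by_contra hno
    push Not at hno
    refine hno.1 (Subtype.ext (AddMonoidHom.ext fun z => ?_))
    refine hsub (AddMonoidHom.ker (k : AddMonoid.End (Additive Z))) (fun i v hv => ?_) (ev l) ?_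
      (fun h => hno.2 (hinj (h.trans (map_zero ev).symm))) z
    · change (k : AddMonoid.End (Additive Z)) v = 0 at hv
      change (k : AddMonoid.End (Additive Z)) (b i v) = 0
      have h : k * ⟨b i, hmem i⟩ = ⟨b i, hmem i⟩ * k := mul_comm _ _
      have h2 := DFunLike.congr_fun (congrArg Subtype.val h) v
      refine h2.trans ?_
      change b i ((k : AddMonoid.End (Additive Z)) v) = 0
      rw [hv, map_zero]
    · change (k : AddMonoid.End (Additive Z)) (ev l) = 0
      exact (hev k l).symm.trans ((congrArg ev hkl).trans (map_zero ev))⟩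
  haveI : IsDomain R := NoZeroDivisors.to_isDomain R
  haveI : CharP R p := by
    refine (CharP.charP_iff_prime_eq_zero hp).2 (hinj ?_)
    refine Eq.trans ?_ (map_zero ev).symm
    have h0 : p • Additive.ofMul μ = 0 := by rw [← ofMul_pow, hexp]; rfl
    change ((p : R) : AddMonoid.End (Additive Z)) (Additive.ofMul μ) = 0
    rw [SubringClass.coe_natCast, AddMonoid.End.natCast_apply, h0]
  have hfix : ∀ k : R, k ^ p ^ n = k := by
    rintro ⟨x, hx⟩
    induction hx using Subring.closure_induction with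
    | mem x hx =>
      obtain ⟨i, rfl⟩ := hx
      refine Subtype.ext (AddMonoidHom.ext fun z => ?_)
      change (b i ^ p ^ n) z = b i z
      rw [hbpow, hn]
      rfl
    | zero => exact zero_pow (pow_ne_zero n hp.ne_zero)
    | one => exact one_pow _
    | add x y hx' hy' hx hy =>
      refine (add_pow_char_pow (⟨x, hx'⟩ : R) (⟨y, hy'⟩ : R) p n).trans ?_
      rw [hx, hy]
      rfl
    | neg x hx' hx =>
      refine (map_neg (iterateFrobenius R p n) ⟨x, hx'⟩).trans ?_
      rw [iterateFrobenius_def, hx]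
      rfl
    | mul x y hx' hy' hx hy =>
      refine (mul_pow (⟨x, hx'⟩ : R) ⟨y, hy'⟩ (p ^ n)).trans ?_
      rw [hx, hy]
      rfl
  obtain ⟨k, hk⟩ := (IsPGroup.exists_card_eq (G := Z) (p := p) fun z => ⟨1, by rw [pow_one, hexp]⟩)
  refine ⟨k, hk, ?_⟩
  obtain ⟨u, hu⟩ := IsCyclic.exists_ofOrder_eq_natCard (α := Rˣ)
  have hu1 : orderOf u ∣ p ^ n - 1 := by
    refine orderOf_dvd_of_pow_eq_one ?_
    have h1 : u ^ p ^ n = u := Units.ext (by rw [Units.val_pow_eq_pow_val, hfix])
    have hpos : 0 < p ^ n := pow_pos hp.pos n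
    conv_lhs at h1 => rw [← Nat.sub_add_cancel hpos, pow_succ]
    exact mul_eq_right.1 h1
  have hunits : Nat.card Rˣ = p ^ k - 1 := by
    letI : Field R := (Finite.isField_of_domain R).toField
    rw [Nat.card_units, hcard, hk]
  rw [hu, hunits] at hu1
  have h := Nat.pow_sub_one_gcd_pow_sub_one p k n
  rw [Nat.gcd_eq_left hu1] at h
  have h1 : p ^ k = p ^ Nat.gcd k n := by
    have a1 : 0 < p ^ k := pow_pos hp.pos k
    have a2 : 0 < p ^ Nat.gcd k n := pow_pos hp.pos _
    omega
  rw [Nat.pow_right_injective hp.two_le h1]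
  exact Nat.gcd_dvd_right k n

end CfsgLib.DegreeAntichain
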