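import Cfsg.Agent.Lib.DegreeAntichain.Central
import Cfsg.Agent.Lib.DegreeAntichain.SimpleCard

/-!
The counting argument against a minimal non-abelian kernel.
-/

set_option autoImplicit false
set_option linter.unusedSectionVars false

namespace CfsgLib.DegreeAntichain

open Cfsg CfsgLib.CharsMore CfsgLib.CharApps
open scoped commutatorElement

universe u

variable {X : Type u} [Group X] [Fintype X] {γ : MulAut X} {q f : ℕ}
  {R : Subgroup X} [R.Normal] {x : X}

theorem commutator_commutator_le {G : Type*} [Group G] (hc : commutator G ≤ Subgroup.center G) :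
    commutator (commutator G) ≤ ⊥ :=
  (Subgroup.commutator_le (H₁ := (⊤ : Subgroup (commutator G))) (H₂ := ⊤) (H₃ := ⊥)).2
    fun a _ b _ => Subgroup.mem_bot.2 (commutatorElement_eq_one_iff_mul_comm.2
      (Palfy.comm_commutator hc a b))

/-- Two subgroups meeting trivially after a translation. -/
theorem translate_injective {E : Type*} [CommGroup E] (d : E →* E) (F : Subgroup E)
    (h : ∀ z ∈ F, d z ∈ F → z = 1) :
    Function.Injective fun e : F × F => (e.1 : E) * d e.2 := by
  rintro ⟨e₁, e₂⟩ ⟨e₁', e₂'⟩ he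
  simp only at he
  have h1 : d ((e₂' : E) / e₂) = (e₁ : E) / e₁' := by
    rw [map_div, div_eq_div_iff_mul_eq_mul, mul_comm]
    exact he.symm
  have h2 := h _ (F.div_mem e₂'.2 e₂.2) (h1 ▸ F.div_mem e₁.2 e₁'.2)
  rw [div_eq_one] at h2
  rw [h2] at he
  exact Prod.ext (Subtype.ext (mul_right_cancel he)) (Subtype.ext h2.symm)

/-- Elements fixing a non-trivial character of the derived subgroup are fixed by the automorphism
modulo the kernel. -/
theorem Kern.stab_fixed (K : Kern γ q R x) (D : Data X γ q f) [Fintype R]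
    (hc : commutator R ≤ Subgroup.center R) {p : ℕ} (hp : p.Prime) (hP : IsPGroup p R)
    {e₀ : R →* ℂˣ} (he₀ : e₀ ≠ 1) (hpE : p ∣ Nat.card (R →* ℂˣ))
    {μ : commutator R →* ℂˣ} (hμ : μ ≠ 1) :
    (¬ stabC R μ ≤ (dual R).ker) ∧ (dual R).ker ≤ stabC R μ ∧
      ∀ s ∈ stabC R μ, γ s * s⁻¹ ∈ (dual R).ker := by
  classical
  haveI := Fact.mk hp
  obtain ⟨η, hη⟩ := Palfy.exists_radical_ext hc μ
  obtain ⟨φ, hφμ, -, hφ0⟩ := Palfy.exists_over_ext hc η hη
  have hrad := K.radical_eq D hc hp hP he₀ hμ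
  -- the inertia group of the character over `μ`
  have hT : ∀ g, g ∈ inertia R (φ : R → ℂ) ↔ g ∈ stabC R μ := by
    intro g
    rw [mem_inertia, mem_stabC]
    refine ⟨fun h z => Units.ext ?_, fun h r => ?_⟩
    · have h1 := h (z : R)
      rw [← coe_comConj R g z, hφμ, hφμ] at h1
      exact mul_left_cancel₀ (Chars.irr_degree_ne_zero φ.2) h1
    · by_cases hr : r ∈ commutator R
      · rw [← coe_comConj R g ⟨r, hr⟩, hφμ, h, ← hφμ]
      · have hgr : conjBy R g r ∉ commutator R := fun h2 => hr (by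
          have h3 := map_mem_commutator (conjBy R g⁻¹) h2
          rwa [show conjBy R g⁻¹ (conjBy R g r) = r from Subtype.ext (by simp [mul_assoc])] at h3)
        rw [hφ0 r (hrad ▸ hr), hφ0 _ (hrad ▸ hgr)]
  have hTe : inertia R (φ : R → ℂ) = stabC R μ := Subgroup.ext hT
  have hnle : ¬ stabC R μ ≤ (dual R).ker := hTe ▸ K.inertia_not_le D hp hP he₀ hμ φ hφμ
  have hKS : (dual R).ker ≤ stabC R μ := fun k hk => (mem_stabC R).2 fun z =>
    congrArg μ (Subtype.ext (ker_dual_centralizes hc hk z.2))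
  refine ⟨hnle, hKS, ?_⟩
  have hRK : R ≤ (dual R).ker := le_ker_dual R
  set H := Subgroup.centralizer ({x} : Set X) with hHdef
  have hH : R.IsComplement' H := K.isComplement D.prime
  -- the elements of `p`-power order modulo the kernel
  let M : Subgroup X :=
    { carrier := {y | ∃ j, y ^ p ^ j ∈ R}
      one_mem' := ⟨0, by simp⟩
      mul_mem' := fun {a b} ha hb => by
        obtain ⟨i, hi⟩ := ha
        obtain ⟨j, hj⟩ := hb
        refine ⟨i + j, ?_⟩
        rw [← QuotientGroup.eq_one_iff] at hi hj ⊢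
        rw [QuotientGroup.mk_pow] at hi hj ⊢
        rw [QuotientGroup.mk_mul, (show Commute _ _ from mk_comm K.le_comm a b).mul_pow]
        conv_lhs => arg 1; rw [pow_add, pow_mul, hi, one_pow]
        rw [one_mul, add_comm, pow_add, pow_mul, hj, one_pow]
      inv_mem' := fun {a} ha => by
        obtain ⟨i, hi⟩ := ha
        exact ⟨i, by rw [inv_pow]; exact R.inv_mem hi⟩ }
  have hRM : R ≤ M := fun r hr => ⟨0, by simpa using hr⟩
  haveI hMn : M.Normal := ⟨fun a ha g => by
    obtain ⟨i, hi⟩ := ha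
    exact ⟨i, by rw [conj_pow]; exact (‹R.Normal›).conj_mem _ hi g⟩⟩
  haveI := Fintype.ofFinite M
  have hM : ∀ m ∈ M, γ m ∈ M := fun m ⟨i, hi⟩ => ⟨i, by rw [← map_pow]; exact K.invariant _ hi⟩
  have hprojM : ∀ m ∈ M, (Palfy.proj hH m : X) ∈ M := fun m hm => by
    exact Palfy.proj_mem hH hRM hm
  -- the `p`-elements of the complement centralise `R`
  have hk : ∀ k ∈ H, k ∈ M → ∀ r : R, conjBy R k r = r := by
    intro k hkH ⟨j, hj⟩
    have hk1 : k ^ p ^ j = 1 := Subgroup.disjoint_def.1 hH.disjoint hj (pow_mem hkH _)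
    have hkK : k ∈ (dual R).ker := by
      haveI := Fintype.ofFinite (R →* ℂˣ)
      let σ : Equiv.Perm (R →* ℂˣ) :=
        { toFun := fun e => dual R k e
          invFun := fun e => dual R k⁻¹ e
          left_inv := fun e => by
            change dual R k⁻¹ (dual R k e) = e
            rw [← dual_mul_apply, inv_mul_cancel, map_one]; rfl
          right_inv := fun e => by
            change dual R k (dual R k⁻¹ e) = e
            rw [← dual_mul_apply, mul_inv_cancel, map_one]; rfl }
      have hσi : ∀ i e, (σ ^ i) e = dual R (k ^ i) e := by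
        intro i
        induction i with
        | zero => intro e; simp
        | succ i ih =>
          intro e
          rw [pow_succ', pow_succ', Equiv.Perm.mul_apply, ih, dual_mul_apply]
          rfl
      have hσ : σ ^ p ^ j = 1 := Equiv.ext fun e => by rw [hσi, hk1, map_one]; rfl
      obtain ⟨e, he, he1⟩ := Equiv.Perm.exists_fixed_point_of_prime'
        (by rwa [← Nat.card_eq_fintype_card]) hσ (a := (1 : R →* ℂˣ))
        (show dual R k 1 = 1 from map_one _)
      exact K.dual_fix D he1 he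
    have hcen : ∀ r : R, conjBy R k r * r⁻¹ ∈ commutator R := ker_dual_mod hkK
    let c : R → commutator R := fun r => ⟨conjBy R k r * r⁻¹, hcen r⟩
    have hcmul : ∀ a b, c (a * b) = c a * c b := fun a b => Subtype.ext (by
      change conjBy R k (a * b) * (a * b)⁻¹ = conjBy R k a * a⁻¹ * (conjBy R k b * b⁻¹)
      rw [map_mul, mul_inv_rev]
      have h1 : conjBy R k b * b⁻¹ * a⁻¹ = a⁻¹ * (conjBy R k b * b⁻¹) :=
        (Subgroup.mem_center_iff.1 (hc (hcen b)) a⁻¹).symm
      rw [mul_assoc, mul_assoc _ a⁻¹, ← h1, mul_assoc, ← mul_assoc (conjBy R k b)])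
    intro r
    rw [← mul_inv_eq_one]
    by_contra hne
    obtain ⟨ν, -, hν⟩ := exists_hom_ne_one (⊥ : Subgroup (commutator R))
      (commutator_commutator_le hc) (z := c r)
      (fun h => hne (congrArg Subtype.val (Subgroup.mem_bot.1 h)))
    have hν1 : ν ≠ 1 := fun h => hν (by rw [h]; rfl)
    let e : R →* ℂˣ :=
      { toFun := fun a => ν (c a)
        map_one' := by
          rw [show c 1 = 1 from Subtype.ext (by simp [c]), map_one]
        map_mul' := fun a b => by rw [hcmul, map_mul] }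
    have he : e ≠ 1 := fun h => hν (DFunLike.congr_fun h r)
    have hnle' : ¬ stabC R ν ≤ (dual R).ker := by
      obtain ⟨η', hη'⟩ := Palfy.exists_radical_ext hc ν
      obtain ⟨φ', hφ'μ, -, hφ'0⟩ := Palfy.exists_over_ext hc η' hη'
      intro hle
      refine K.inertia_not_le D hp hP he₀ hν1 φ' hφ'μ fun g hg => hle ?_
      rw [mem_stabC]
      intro z
      refine Units.ext ?_
      have h1 := (mem_inertia R).1 hg (z : R)
      rw [← coe_comConj R g z, hφ'μ, hφ'μ] at h1
      exact mul_left_cancel₀ (Chars.irr_degree_ne_zero φ'.2) h1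
    refine hnle' fun g hg => ?_
    have hh : (Palfy.proj hH g : X) ∈ stabC R ν ∧ (Palfy.proj hH g : X) ∈ H := by
      refine ⟨?_, (Palfy.proj hH g).2⟩
      refine Palfy.proj_mem hH (fun a ha => (mem_stabC R).2 fun z => congrArg ν (Subtype.ext ?_)) hg
      exact ker_dual_centralizes hc (hRK ha) z.2
    have hhK : (Palfy.proj hH g : X) ∈ (dual R).ker := by
      refine K.dual_fix D he (MonoidHom.ext fun a => ?_)
      change ν (c (conjBy R (Palfy.proj hH g : X)⁻¹ a)) = ν (c a)
      rw [← (mem_stabC R).1 (Subgroup.inv_mem _ hh.1) (c a)]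
      refine congrArg ν (Subtype.ext ?_)
      rw [coe_comConj]
      change conjBy R k (conjBy R _ a) * (conjBy R _ a)⁻¹ =
        conjBy R _ (conjBy R k a * a⁻¹)
      rw [map_mul, map_inv]
      congr 1
      refine Subtype.ext ?_
      have hkh : k * (Palfy.proj hH g : X)⁻¹ = (Palfy.proj hH g : X)⁻¹ * k :=
        K.centralizer_comm hkH (Subgroup.inv_mem _ hh.2)
      simp only [coe_conjBy]
      rw [← mul_assoc, ← mul_assoc, hkh]
      have hkh' : (Palfy.proj hH g : X)⁻¹⁻¹ * k⁻¹ = k⁻¹ * (Palfy.proj hH g : X)⁻¹⁻¹ :=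
        K.centralizer_comm (Subgroup.inv_mem _ (Subgroup.inv_mem _ hh.2)) (Subgroup.inv_mem _ hkH)
      simp only [mul_assoc]
      rw [hkh']
    have := (dual R).ker.mul_mem (hRK (Palfy.mul_proj_inv_mem hH g)) hhK
    rwa [inv_mul_cancel_right] at this
  -- the projection to `R`
  let π : M →* R :=
    { toFun := fun m => ⟨(m : X) * (Palfy.proj hH (m : X) : X)⁻¹, Palfy.mul_proj_inv_mem hH _⟩
      map_one' := Subtype.ext (by simp)
      map_mul' := fun a b => Subtype.ext (by
        have h1 := congrArg Subtype.val (hk _ (Palfy.proj hH (a : X)).2 (hprojM _ a.2)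
          ⟨_, Palfy.mul_proj_inv_mem hH (b : X)⟩)
        simp only [coe_conjBy] at h1
        simp only [Subgroup.coe_mul, map_mul, mul_inv_rev]
        conv_rhs => rw [← h1]
        simp [mul_assoc]) }
  have hπR : ∀ r : R, π ⟨r, hRM r.2⟩ = r := fun r => Subtype.ext (by
    change (r : X) * (Palfy.proj hH (r : X) : X)⁻¹ = r
    rw [Palfy.proj_eq_one hH r.2, OneMemClass.coe_one, inv_one, mul_one])
  have hη' : IsIrrCharacter M (fun m => (φ : R → ℂ) (π m)) :=
    Chars.isIrrCharacter_comp π (fun r => ⟨⟨r, hRM r.2⟩, hπR r⟩) φ.2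
  have hMp : IsPGroup p M := fun m => by
    obtain ⟨j, hj⟩ := m.2
    obtain ⟨i, hi⟩ := hP ⟨_, hj⟩
    refine ⟨j + i, Subtype.ext ?_⟩
    rw [SubmonoidClass.coe_pow, pow_add, pow_mul]
    exact congrArg Subtype.val hi
  have hcop : (Nat.card M).Coprime M.index := by
    obtain ⟨j, hj⟩ := hMp.exists_card_eq
    rw [hj]
    refine Nat.Coprime.pow_left j ((hp.coprime_iff_not_dvd).2 fun hd => ?_)
    obtain ⟨y, hy⟩ := exists_prime_orderOf_dvd_card' p
      (show p ∣ Nat.card (X ⧸ M) from hd)
    obtain ⟨y, rfl⟩ := QuotientGroup.mk_surjective y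
    have hy1 : y ^ p ∈ M := by
      rw [← QuotientGroup.eq_one_iff, QuotientGroup.mk_pow]
      exact orderOf_dvd_iff_pow_eq_one.1 hy.dvd
    obtain ⟨i, hi⟩ := hy1
    have hyM : y ∈ M := ⟨i + 1, by rw [pow_succ', pow_mul]; exact hi⟩
    rw [(QuotientGroup.eq_one_iff y).2 hyM, orderOf_one] at hy
    exact hp.one_lt.ne hy
  have hMK : M ≤ (dual R).ker := by
    intro m hm
    have hkK : (Palfy.proj hH m : X) ∈ (dual R).ker := (mem_ker_dual R).2 fun e =>
      MonoidHom.ext fun r => congrArg e (by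
        have hmem := hprojM m hm
        have h1 := hk _ (Subgroup.inv_mem H (Palfy.proj hH m).2) (M.inv_mem hmem) r
        exact h1)
    have := (dual R).ker.mul_mem (hRK (Palfy.mul_proj_inv_mem hH m)) hkK
    rwa [inv_mul_cancel_right] at this
  have hdeg : charDegree (fun m => (φ : R → ℂ) (π m)) = charDegree (φ : R → ℂ) := by
    simp [charDegree]
  have hnl : (inertia M (fun m => (φ : R → ℂ) (π m))).index *
      charDegree (fun m => (φ : R → ℂ) (π m)) ≠ 1 := fun h => by
    have h1 := Nat.eq_one_of_mul_eq_one_left h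
    rw [hdeg] at h1
    exact hp.not_dvd_one (h1 ▸ Palfy.dvd_degree hp hP hμ φ hφμ)
  have hle := D.inertia_le M hM (K.le_comm.trans hRM) hη'
    (Palfy.exists_ext_inertia hη' hcop) hnl
  intro s hs
  have hsI : s ∈ inertia M (fun m => (φ : R → ℂ) (π m)) := by
    have hr : s * (Palfy.proj hH s : X)⁻¹ ∈ inertia M (fun m => (φ : R → ℂ) (π m)) :=
      le_inertia M (Chars.isClassFunction_irr ⟨_, hη'⟩) (hRM (Palfy.mul_proj_inv_mem hH s))
    have hRS : R ≤ stabC R μ := hRK.trans hKS
    have hh : (Palfy.proj hH s : X) ∈ inertia M (fun m => (φ : R → ℂ) (π m)) := by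
      rw [mem_inertia]
      intro m
      have h1 := (mem_inertia R).1 ((hT _).2 (Palfy.proj_mem hH hRS hs)) (π m)
      refine (congrArg (φ : R → ℂ) (Subtype.ext ?_)).trans h1
      set h := Palfy.proj hH s
      have hcm : ((h : X) * (Palfy.proj hH (m : X) : X)) = (Palfy.proj hH (m : X) : X) * h :=
        K.centralizer_comm h.2 (Palfy.proj hH (m : X)).2
      change ((h : X) * m * (h : X)⁻¹) * (Palfy.proj hH ((h : X) * m * (h : X)⁻¹) : X)⁻¹ =
        (h : X) * ((m : X) * (Palfy.proj hH (m : X) : X)⁻¹) * (h : X)⁻¹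
      rw [map_mul, map_mul, map_inv, Palfy.proj_coe, Subgroup.coe_mul, Subgroup.coe_mul,
        InvMemClass.coe_inv, hcm, mul_inv_cancel_right]
      have hcm' : (h : X)⁻¹ * (Palfy.proj hH (m : X) : X)⁻¹ =
          (Palfy.proj hH (m : X) : X)⁻¹ * (h : X)⁻¹ := by
        rw [← mul_inv_rev, ← mul_inv_rev, hcm]
      simp [mul_assoc, hcm']
    have := (inertia M fun m => (φ : R → ℂ) (π m)).mul_mem hr hh
    rwa [inv_mul_cancel_right] at this
  exact hMK (hle hsI)

/-- A minimal non-abelian kernel does not exist. -/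
theorem Kern.false_of_minimal (K : Kern γ q R x) (D : Data X γ q f) [Group.IsNilpotent R]
    (hne : commutator R ≠ ⊥)
    (hmin : ∀ T : Subgroup R, (∀ σ : R →* R, Function.Bijective σ → ∀ z ∈ T, σ z ∈ T) →
      T ≠ ⊥ → commutator R ≤ T) : False := by
  classical
  haveI := Fintype.ofFinite R
  obtain ⟨hc, p, hp, hP, hexp⟩ := exists_structure K hne hmin
  haveI := Fact.mk hp
  haveI : Nontrivial R := by
    by_contra h
    haveI := not_nontrivial_iff_subsingleton.1 h
    exact hne (Subgroup.eq_bot_of_subsingleton _)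
  haveI : Group.IsSolvable R := inferInstance
  obtain ⟨u, -, hu⟩ := SetLike.exists_of_lt (Group.IsSolvable.commutator_lt_top_of_nontrivial R)
  obtain ⟨e₀, -, he₀u⟩ := exists_hom_ne_one (commutator R) le_rfl hu
  have he₀ : e₀ ≠ 1 := fun h => he₀u (by rw [h]; rfl)
  -- the order of the dual
  haveI := Fintype.ofFinite (R →* ℂˣ)
  obtain ⟨m₀, hm₀⟩ := hP.exists_card_eq
  obtain ⟨n, -, hn⟩ := (Nat.dvd_prime_pow hp).1 (hm₀ ▸ (commutator R).index_dvd_card)
  rw [← Chars.card_monoidHom_units] at hn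
  have hpE : p ∣ Nat.card (R →* ℂˣ) := by
    rw [hn]
    refine dvd_pow_self p fun h0 => he₀ ?_
    rw [h0, pow_zero] at hn
    exact (Nat.card_eq_one_iff_unique.1 hn).1.elim _ _
  -- the quotient by the kernel
  set Kk := (dual R).ker with hKk
  haveI hKn : Kk.Normal := by rw [hKk]; infer_instance
  have hRK : R ≤ Kk := le_ker_dual R
  have habK : commutator X ≤ Kk := K.le_comm.trans hRK
  have hKinv : ∀ k ∈ Kk, γ k ∈ Kk := fun k hk => ker_dual_invariant γ R K.invariant hk
  let δA : X ⧸ Kk →* Monoid.End (R →* ℂˣ) := QuotientGroup.lift Kk (dual R) le_rfl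
  have hδA : ∀ y : X, δA (y : X ⧸ Kk) = dual R y := fun y => rfl
  have hmul : ∀ a b e, δA (a * b) e = δA a (δA b e) := fun a b e => by rw [map_mul]; rfl
  have hsemi : ∀ (a : X ⧸ Kk) (e : R →* ℂˣ), e ≠ 1 → δA a e = e → a = 1 := by
    intro a e he h
    obtain ⟨y, rfl⟩ := QuotientGroup.mk_surjective a
    exact (QuotientGroup.eq_one_iff y).2 (K.dual_fix D he h)
  have hinj : ∀ (a b : X ⧸ Kk) (e : R →* ℂˣ), e ≠ 1 → δA a e = δA b e → a = b := by
    intro a b e he h
    refine (inv_mul_eq_one.1 (hsemi (b⁻¹ * a) e he ?_)).symm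
    rw [hmul, h, ← hmul, inv_mul_cancel, map_one]
    rfl
  have hAc : ∀ a b : X ⧸ Kk, a * b = b * a := fun a b => by
    obtain ⟨a, rfl⟩ := QuotientGroup.mk_surjective a
    obtain ⟨b, rfl⟩ := QuotientGroup.mk_surjective b
    exact mk_comm habK a b
  -- the free action divides
  have hAdvd : Nat.card (X ⧸ Kk) ∣ p ^ n - 1 := by
    have hne1 : ∀ (a : X ⧸ Kk) (e : R →* ℂˣ), e ≠ 1 → δA a e ≠ 1 := fun a e he h => he (by
      have h1 := congrArg (δA a⁻¹) h
      rw [← hmul, inv_mul_cancel, map_one, map_one] at h1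
      exact h1)
    letI : MulAction (X ⧸ Kk) {e : R →* ℂˣ // e ≠ 1} :=
      { smul := fun a e => ⟨δA a e.1, hne1 a e.1 e.2⟩
        one_smul := fun e => Subtype.ext (by change δA 1 e.1 = e.1; rw [map_one]; rfl)
        mul_smul := fun a b e => Subtype.ext (hmul a b e.1) }
    have h := card_dvd_of_free (A := X ⧸ Kk) (S := {e : R →* ℂˣ // e ≠ 1})
      fun a e h => hsemi a e.1 e.2 (congrArg Subtype.val h)
    rwa [Nat.card_eq_fintype_card (α := {e : R →* ℂˣ // e ≠ 1}), Fintype.card_subtype_compl,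
      Fintype.card_subtype_eq, ← Nat.card_eq_fintype_card, hn] at h
  have hAf : (Nat.card (X ⧸ Kk)).Coprime f := by
    obtain ⟨ξ, hξ⟩ := exists_over R (isIrrCharacter_linFun e₀)
    have hξd : charDegree (ξ : X → ℂ) = Kk.index := by
      rw [over_degree R K.le_comm (isIrrCharacter_linFun e₀)
        (Palfy.exists_ext_linear (K.isComplement D.prime) e₀) ξ hξ, charDegree_linFun, mul_one,
        K.inertia_eq D he₀]
    rw [← Subgroup.index_eq_card, ← hξd]
    exact D.cop ξ (by rw [hξd, hKk, ← K.inertia_eq D he₀]; exact (moved_iff R e₀).1 (K.moved he₀))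
  let τ : X ⧸ Kk →* X ⧸ Kk := QuotientGroup.map Kk Kk γ.symm.toMonoidHom fun y hy =>
    (mem_iff_of_invariant γ hKinv _).1 (by
      change γ (γ.symm y) ∈ Kk
      rw [MulEquiv.apply_symm_apply]; exact hy)
  have hτ : ∀ (a : X ⧸ Kk) e, pull γ R K.invariant (δA a e) =
      δA (τ a) (pull γ R K.invariant e) := by
    intro a e
    obtain ⟨y, rfl⟩ := QuotientGroup.mk_surjective a
    have h := pull_dual γ R K.invariant (γ.symm y) e
    rw [MulEquiv.apply_symm_apply] at h
    exact h
  have hconj : ∀ e : R →* ℂˣ, e ≠ 1 → ∃ a, pull γ R K.invariant e = δA a e := by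
    intro e he
    obtain ⟨χ, hχ⟩ := exists_over R (isIrrCharacter_linFun e)
    obtain ⟨g, hg⟩ := exists_conj_of_fixed γ R K.invariant (isIrrCharacter_linFun e) χ.2 hχ
      (D.fixed χ (by
        rw [over_degree R K.le_comm (isIrrCharacter_linFun e)
          (Palfy.exists_ext_linear (K.isComplement D.prime) e) χ hχ, charDegree_linFun, mul_one]
        exact (moved_iff R e).1 (K.moved he)))
    refine ⟨((g⁻¹ : X) : X ⧸ Kk), MonoidHom.ext fun r => Units.ext ?_⟩
    rw [hδA]
    change linFun e (resAut γ R K.invariant r) = linFun e (conjBy R g⁻¹⁻¹ r)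
    rw [inv_inv]
    exact hg r
  -- the character of the derived subgroup
  haveI : Finite (commutator R →* ℂˣ) := Chars.finite_monoidHom_units
  let Inv : Subgroup (commutator R →* ℂˣ) → Prop := fun W => ∀ y, ∀ w ∈ W, dualC R y w ∈ W
  obtain ⟨Z₀, ⟨hZinv, hZne⟩, hZmin⟩ := (Set.toFinite
    {W : Subgroup (commutator R →* ℂˣ) | Inv W ∧ W ≠ ⊥}).exists_minimal ⟨⊤,
      fun _ _ _ => Subgroup.mem_top _, fun h => by
        obtain ⟨z, hz⟩ : ∃ z : commutator R, z ≠ 1 := by
          haveI := (Subgroup.nontrivial_iff_ne_bot _).2 hne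
          exact exists_ne 1
        obtain ⟨ν, -, hν⟩ := exists_hom_ne_one (⊥ : Subgroup (commutator R))
          (commutator_commutator_le hc) (z := z) (fun h => hz (Subgroup.mem_bot.1 h))
        have h1 : ν ∈ (⊥ : Subgroup (commutator R →* ℂˣ)) := h ▸ Subgroup.mem_top ν
        rw [Subgroup.mem_bot] at h1
        exact hν (by rw [h1]; rfl)⟩
  obtain ⟨μ, hμZ, hμ⟩ := (Subgroup.bot_or_exists_ne_one Z₀).resolve_left hZne
  obtain ⟨-, hKS, hSfix⟩ := K.stab_fixed D hc hp hP he₀ hpE hμ
  have hKtriv : ∀ k ∈ Kk, ∀ ν : commutator R →* ℂˣ, dualC R k ν = ν := fun k hk ν =>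
    MonoidHom.ext fun z => congrArg ν (Subtype.ext (ker_dual_centralizes hc
      (Subgroup.inv_mem _ hk) z.2))
  -- the order of the simple module
  let a : X → Monoid.End Z₀ := fun y =>
    (((dualC R y : (commutator R →* ℂˣ) →* (commutator R →* ℂˣ))).comp Z₀.subtype).codRestrict Z₀
      fun w => hZinv y _ w.2
  have ha : ∀ y (w : Z₀), ((a y w : Z₀) : commutator R →* ℂˣ) = dualC R y w := fun y w => rfl
  have hapow : ∀ y m (w : Z₀), (((a y ^ m) w : Z₀) : commutator R →* ℂˣ) = dualC R (y ^ m) w := by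
    intro y m
    induction m with
    | zero => intro w; simp
    | succ m ih =>
      intro w
      rw [pow_succ, pow_succ, dualC_mul_apply]
      change (((a y ^ m) (a y w) : Z₀) : commutator R →* ℂˣ) = _
      rw [ih, ha]
  obtain ⟨k, hZk, hkn⟩ := exists_card_eq_pow hp (Z := Z₀)
    (fun w => Subtype.ext (MonoidHom.ext fun z => by
      change ((w : commutator R →* ℂˣ) ^ p) z = 1
      rw [MonoidHom.pow_apply, ← map_pow,
        show z ^ p = 1 from Subtype.ext (hexp _ z.2), map_one]))
    a (fun y y' => MonoidHom.ext fun w => Subtype.ext (by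
      change dualC R y (dualC R y' w) = dualC R y' (dualC R y w)
      rw [← dualC_mul_apply, ← dualC_mul_apply,
        show y * y' = ⁅y, y'⁆ * (y' * y) by rw [commutatorElement_def]; group, dualC_mul_apply]
      exact hKtriv _ (habK (Subgroup.commutator_mem_commutator (Subgroup.mem_top y)
        (Subgroup.mem_top y'))) _))
    (n := n) (fun y => MonoidHom.ext fun w => Subtype.ext (by
      refine (hapow y _ w).trans (Eq.trans ?_ (ha y w).symm)
      have h1 : y ^ p ^ n * y⁻¹ ∈ Kk := by
        rw [← QuotientGroup.eq_one_iff, QuotientGroup.mk_mul, QuotientGroup.mk_pow,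
          QuotientGroup.mk_inv, mul_inv_eq_one]
        obtain ⟨c, hc'⟩ := hAdvd
        conv_lhs => rw [← Nat.sub_add_cancel (show 1 ≤ p ^ n from pow_pos hp.pos n), pow_succ, hc',
          pow_mul, pow_card_eq_one', one_pow, one_mul]
      rw [show y ^ p ^ n = y ^ p ^ n * y⁻¹ * y by rw [inv_mul_cancel_right], dualC_mul_apply,
        hKtriv _ h1]))
    (fun W hW => by
      by_cases hWb : W = ⊥
      · exact Or.inl hWb
      right
      have hmap : W.map Z₀.subtype ∈
          {W : Subgroup (commutator R →* ℂˣ) | Inv W ∧ W ≠ ⊥} := by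
        refine ⟨?_, fun h => hWb ?_⟩
        · rintro y _ ⟨w, hw, rfl⟩
          exact ⟨a y w, hW y w hw, rfl⟩
        · exact (Subgroup.map_eq_bot_iff_of_injective W Z₀.subtype_injective).1 h
      have hle : W.map Z₀.subtype ≤ Z₀ := Subgroup.map_subtype_le W
      refine (Subgroup.eq_top_iff' _).2 fun w => ?_
      obtain ⟨w', hw', he⟩ := hZmin hmap hle w.2
      rwa [← Subtype.ext he])
    (μ := ⟨μ, hμZ⟩) (fun h => hμ (congrArg Subtype.val h))
  -- it is smaller than the square root
  have hZlt : Nat.card Z₀ < Nat.card (R →* ℂˣ) := by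
    haveI := Fintype.ofFinite Z₀
    rw [Nat.card_eq_fintype_card, Nat.card_eq_fintype_card]
    let Ψ : Z₀ → (R →* ℂˣ) := fun ν =>
      ((ν : commutator R →* ℂˣ).comp (Palfy.brk hc u)).comp Abelianization.of
    refine Fintype.card_lt_of_injective_not_surjective Ψ (fun ν ν' h => ?_) fun hs => ?_
    · refine Subtype.ext ?_
      by_contra hne'
      apply hu
      rw [← K.radical_eq D hc hp hP he₀ (μ := (ν : commutator R →* ℂˣ) / ν')
        (fun h1 => hne' (div_eq_one.1 h1)), Palfy.mem_radical]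
      intro y
      have h2 := DFunLike.congr_fun h y
      change (ν : commutator R →* ℂˣ) (Palfy.cel u y) =
        (ν' : commutator R →* ℂˣ) (Palfy.cel u y) at h2
      rw [MonoidHom.div_apply, h2, div_self']
    · obtain ⟨ν, hν⟩ := hs e₀
      apply he₀u
      rw [← hν]
      change (ν : commutator R →* ℂˣ) (Palfy.cel u u) = 1
      rw [show Palfy.cel u u = 1 from Subtype.ext (commutatorElement_self u), map_one]
  have hsq : Nat.card Z₀ * Nat.card Z₀ ≤ Nat.card (R →* ℂˣ) := by
    rw [hn, hZk] at hZlt ⊢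
    have hklt : k < n := (Nat.pow_lt_pow_iff_right hp.one_lt).1 hZlt
    obtain ⟨c, rfl⟩ := hkn
    rw [← pow_add]
    refine Nat.pow_le_pow_right hp.pos ?_
    rcases c with _ | _ | c
    · omega
    · omega
    · rw [Nat.mul_succ, Nat.mul_succ]; omega
  -- the subgroups on which the automorphism is a given operator
  let F : X ⧸ Kk → Subgroup (R →* ℂˣ) := fun b =>
    MonoidHom.eqLocus (pull γ R K.invariant : (R →* ℂˣ) →* (R →* ℂˣ))
      (δA b : (R →* ℂˣ) →* (R →* ℂˣ))
  have hxK : γ x * x⁻¹ ∉ Kk := fun h => K.moves (by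
    have hD := K.ker_le D he₀ h
    have h1 := D.pow_mem K.invariant K.le_comm hD
    have h2 : (γ x * x⁻¹) ^ q ∈ R := by
      rw [← QuotientGroup.eq_one_iff, QuotientGroup.mk_pow, QuotientGroup.mk_mul,
        (show Commute _ _ from mk_comm K.le_comm (γ x) x⁻¹).mul_pow, ← QuotientGroup.mk_pow,
        ← QuotientGroup.mk_pow, ← map_pow, inv_pow, K.pow, map_one, inv_one]
      simp
    exact mem_fixMod.2 (eq_one_of_pow_mem h2 h1 ((D.prime.coprime_iff_not_dvd).2 D.not_dvd)))
  have hFcard : ∀ b, Nat.card (F b) ≤ Nat.sqrt (Nat.card (R →* ℂˣ)) := by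
    intro b
    rw [Nat.le_sqrt, ← Nat.card_prod]
    refine Nat.card_le_card_of_injective _ (translate_injective (dual R (γ x)) (F b) ?_)
    intro d hdF hd'
    by_contra hne'
    apply hxK
    have h1 : pull γ R K.invariant d = δA b d := hdF
    have h2 : pull γ R K.invariant (dual R (γ x) d) = δA b (dual R (γ x) d) := hd'
    rw [pull_dual, h1, ← hδA, ← hδA, ← hmul, ← hmul] at h2
    have h3 := hinj _ _ d hne' h2
    rw [hAc b] at h3
    have h4 := mul_right_cancel h3
    rw [← QuotientGroup.eq_one_iff, QuotientGroup.mk_mul, QuotientGroup.mk_inv, mul_inv_eq_one]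
    exact h4.symm
  -- realised operators
  choose! hf hhf using hconj
  set Φ := ((Finset.univ : Finset (R →* ℂˣ)).erase 1).image hf with hΦ
  have hreal : ∀ b ∈ Φ, ∃ e : R →* ℂˣ, e ≠ 1 ∧ pull γ R K.invariant e = δA b e := by
    intro b hb
    obtain ⟨e, he, rfl⟩ := Finset.mem_image.1 hb
    exact ⟨e, Finset.ne_of_mem_erase he, hhf e (Finset.ne_of_mem_erase he)⟩
  -- many operators
  have hcount : Nat.card (R →* ℂˣ) - 1 ≤
      (Nat.sqrt (Nat.card (R →* ℂˣ)) - 1) * Φ.card := by
    have h := Finset.card_le_mul_card_image ((Finset.univ : Finset (R →* ℂˣ)).erase 1)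
      (f := hf) (Nat.sqrt (Nat.card (R →* ℂˣ)) - 1) fun b _ => by
        refine le_trans (Finset.card_le_card (t := ((Finset.univ.filter (· ∈ F b))).erase 1)
          fun e he => ?_) ?_
        · obtain ⟨he1, he2⟩ := Finset.mem_filter.1 he
          have hne' := Finset.ne_of_mem_erase he1
          exact Finset.mem_erase.2 ⟨hne', Finset.mem_filter.2 ⟨Finset.mem_univ e,
            show pull γ R K.invariant e = δA b e from he2 ▸ hhf e hne'⟩⟩
        · rw [Finset.card_erase_of_mem (Finset.mem_filter.2 ⟨Finset.mem_univ _, one_mem _⟩)]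
          refine Nat.sub_le_sub_right (le_trans ?_ (hFcard b)) 1
          rw [Nat.card_eq_fintype_card, Fintype.card_subtype]
    rwa [Finset.card_erase_of_mem (Finset.mem_univ _), Finset.card_univ,
      ← Nat.card_eq_fintype_card, ← hΦ] at h
  -- few operators
  have hfew : Φ.card ≤ Nat.card Z₀ - 1 := by
    obtain ⟨n₀, hn₀⟩ := D.inner
    let P : X ⧸ Kk → ℕ → X ⧸ Kk := fun b i => Nat.rec 1 (fun _ c => τ c * b) i
    have hP0 : ∀ b, P b 0 = 1 := fun b => rfl
    have hPs : ∀ b i, P b (i + 1) = τ (P b i) * b := fun b i => rfl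
    have hiter : ∀ b ∈ Φ, P b f = ((n₀⁻¹ : X) : X ⧸ Kk) := by
      intro b hb
      obtain ⟨e, he, heb⟩ := hreal b hb
      have hi : ∀ i, (fun v => pull γ R K.invariant v)^[i] e = δA (P b i) e := by
        intro i
        induction i with
        | zero => rw [hP0, map_one]; rfl
        | succ i ih => rw [Function.iterate_succ_apply', ih, hτ, heb, hPs, hmul]
      refine hinj _ _ e he ?_
      rw [← hi, hδA]
      refine MonoidHom.ext fun r => ?_
      have hres : ∀ i, ((resAut γ R K.invariant)^[i] r : X) = (γ : X → X)^[i] (r : X) := by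
        intro i
        induction i with
        | zero => rfl
        | succ i ih => rw [Function.iterate_succ_apply', Function.iterate_succ_apply', ← ih]; rfl
      have hp' : ∀ i r', ((fun v => pull γ R K.invariant v)^[i] e) r' =
          e ((resAut γ R K.invariant)^[i] r') := by
        intro i
        induction i with
        | zero => intro r'; rfl
        | succ i ih =>
          intro r'
          rw [Function.iterate_succ_apply', Function.iterate_succ_apply]
          exact ih _
      rw [hp', dual_apply, inv_inv]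
      exact congrArg e (Subtype.ext ((hres f).trans (by rw [hn₀, coe_conjBy])))
    haveI := Fintype.ofFinite Z₀
    rw [Nat.card_eq_fintype_card, ← Finset.card_univ, ← Finset.card_erase_of_mem
      (Finset.mem_univ (1 : Z₀))]
    refine Finset.card_le_card_of_injOn (fun b => ⟨dualC R b.out μ, hZinv _ _ hμZ⟩) ?_ ?_
    · intro b _
      refine Finset.mem_coe.2 (Finset.mem_erase.2 ⟨fun h => hμ ?_, Finset.mem_univ _⟩)
      have h1 : dualC R b.out μ = 1 := congrArg Subtype.val h
      have h2 := congrArg (dualC R b.out⁻¹) h1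
      rw [← dualC_mul_apply, inv_mul_cancel, map_one, map_one] at h2
      exact h2
    · intro b hb c hc' h
      have h1 : dualC R b.out μ = dualC R c.out μ := congrArg Subtype.val h
      have hS : b.out⁻¹ * c.out ∈ stabC R μ := by
        change dualC R (b.out⁻¹ * c.out) μ = μ
        rw [dualC_mul_apply, ← h1, ← dualC_mul_apply, inv_mul_cancel, map_one]
        rfl
      set y : X ⧸ Kk := ((b.out⁻¹ * c.out : X) : X ⧸ Kk) with hy
      have hcy : c = b * y := by
        rw [hy, QuotientGroup.mk_mul, QuotientGroup.mk_inv, QuotientGroup.out_eq',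
          QuotientGroup.out_eq', mul_inv_cancel_left]
      have hτy : τ y = y := by
        have h2 : ((γ (b.out⁻¹ * c.out) : X) : X ⧸ Kk) = y := by
          have h3 := (QuotientGroup.eq_one_iff _).2 (hSfix _ hS)
          rw [QuotientGroup.mk_mul, QuotientGroup.mk_inv, mul_inv_eq_one] at h3
          exact h3
        conv_lhs => rw [← h2]
        change ((γ.symm (γ (b.out⁻¹ * c.out)) : X) : X ⧸ Kk) = y
        rw [MulEquiv.symm_apply_apply]
      have hPc : ∀ i, P c i = P b i * y ^ i := by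
        intro i
        induction i with
        | zero => rw [hP0, hP0, pow_zero, mul_one]
        | succ i ih =>
          rw [hPs, hPs, ih, map_mul, map_pow, hτy, hcy, pow_succ, mul_assoc, mul_assoc,
            ← mul_assoc (y ^ i) b y, hAc (y ^ i) b, mul_assoc b]
      have hyf : y ^ f = 1 := by
        have h2 := hPc f
        rw [hiter b hb, hiter c hc', eq_comm, mul_eq_left] at h2
        exact h2
      have hy1 : y = 1 := by
        have h2 := pow_gcd_eq_one.2 ⟨pow_card_eq_one' (x := y), hyf⟩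
        rwa [hAf, pow_one] at h2
      rw [hcy, hy1, mul_one]
  -- contradiction
  have hE1 : 1 < Nat.card (R →* ℂˣ) :=
    lt_of_lt_of_le hp.one_lt (Nat.le_of_dvd Nat.card_pos hpE)
  set s := Nat.sqrt (Nat.card (R →* ℂˣ)) with hs
  have hs2 : s * s ≤ Nat.card (R →* ℂˣ) := Nat.sqrt_le _
  have hs1 : 1 ≤ s := Nat.le_sqrt.2 (by omega)
  have hz1 : 1 ≤ Nat.card Z₀ := Nat.card_pos
  have hb : Nat.card (R →* ℂˣ) - 1 ≤ (s - 1) * (Nat.card Z₀ - 1) :=
    le_trans hcount (Nat.mul_le_mul_left _ hfew)
  obtain ⟨s', hs'⟩ := Nat.exists_eq_add_of_le hs1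
  obtain ⟨z', hz'⟩ := Nat.exists_eq_add_of_le hz1
  obtain ⟨E', hE'⟩ := Nat.exists_eq_add_of_le hE1.le
  rw [hs', hz', hE', Nat.add_sub_cancel_left, Nat.add_sub_cancel_left,
    Nat.add_sub_cancel_left] at hb
  rw [hs', hE'] at hs2
  rw [hz', hE'] at hsq
  rw [hE'] at hE1
  nlinarith [sq_nonneg ((s' : ℤ) - z'), sq_nonneg (s' : ℤ), sq_nonneg (z' : ℤ)]

/-- The kernel is abelian. -/
theorem Kern.abelian (K : Kern γ q R x) (D : Data X γ q f) (hnil : Group.IsNilpotent R) :
    ∀ a ∈ R, ∀ b ∈ R, a * b = b * a := by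
  classical
  suffices h : ⁅R, R⁆ = ⊥ by
    intro a ha b hb
    exact commutatorElement_eq_one_iff_mul_comm.1
      (Subgroup.mem_bot.1 (h ▸ Subgroup.commutator_mem_commutator ha hb))
  by_contra hne
  let S : Set (Subgroup X) :=
    {Y | Y.Normal ∧ (∀ y ∈ Y, γ y ∈ Y) ∧ Y ≤ R ∧ ¬ ⁅R, R⁆ ≤ Y}
  obtain ⟨Y, ⟨hYn, hYi, hYR, hYc⟩, hYmax⟩ := (Set.toFinite S).exists_maximal ⟨⊥,
    inferInstance, fun y hy => by rw [Subgroup.mem_bot] at hy ⊢; rw [hy, map_one], bot_le,
    fun h => hne (le_bot_iff.1 h)⟩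
  set π := QuotientGroup.mk' Y with hπ
  have hπs : Function.Surjective π := QuotientGroup.mk'_surjective Y
  have hcomap : (R.map π).comap π = R :=
    Subgroup.comap_map_eq_self (by rw [hπ, QuotientGroup.ker_mk']; exact hYR)
  haveI hR'n : (R.map π).Normal := (inferInstance : R.Normal).map π hπs
  letI : Fintype (X ⧸ Y) := Fintype.ofFinite _
  have D' := D.quotient Y hYi
  have hmem : ∀ g : X, π g ∈ R.map π ↔ g ∈ R := fun g => by
    conv_rhs => rw [← hcomap]
    rfl
  have K' : Kern (quotAut γ Y hYi) q (R.map π) (π x) := by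
    refine ⟨?_, ?_, by rw [← map_pow, K.pow, map_one], ?_, ?_, ?_⟩
    · rintro _ ⟨r, hr, rfl⟩
      exact ⟨γ r, K.invariant r hr, rfl⟩
    · rw [commutator_def, ← Subgroup.map_top_of_surjective π hπs, ← Subgroup.map_commutator]
      exact Subgroup.map_mono K.le_comm
    · exact fun h => K.coprime (h.trans (Subgroup.card_map_dvd R π))
    · rintro _ ⟨r, hr, rfl⟩ hc
      have hcY : x * r * x⁻¹ * r⁻¹ ∈ Y := by
        rw [← QuotientGroup.eq_one_iff]
        change π (x * r * x⁻¹ * r⁻¹) = 1
        rw [map_mul, map_mul, map_mul, map_inv, map_inv, hc, mul_inv_cancel_right, mul_inv_cancel]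
      obtain ⟨g, hg, hgx⟩ := exists_fixed_in_coset D.prime K.pow Y
        (fun h => K.coprime (h.trans (Subgroup.card_dvd_of_le hYR))) hcY
      have hg1 := K.fpf g (by
        have := R.mul_mem (hYR hg) hr
        rwa [inv_mul_cancel_right] at this) hgx
      rw [hg1, one_mul, inv_mem_iff] at hg
      exact (QuotientGroup.eq_one_iff r).2 hg
    · intro h
      refine K.moves ((hmem _).1 ?_)
      rw [map_mul, map_inv]
      exact h
  haveI : Group.IsNilpotent (R.map π) := by
    haveI := hnil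
    exact Group.nilpotent_of_surjective (π.subgroupMap R) (π.subgroupMap_surjective R)
  have hmem' : ∀ z : R.map π, (z : X ⧸ Y) ∈ (⁅R.map π, R.map π⁆ : Subgroup (X ⧸ Y)) ↔
      z ∈ commutator (R.map π) := fun z => by
    rw [← Subgroup.map_subtype_commutator]
    exact Subgroup.mem_map_iff_mem (Subgroup.subtype_injective _)
  refine K'.false_of_minimal D' (fun h => hYc ?_) fun T hT hTne => ?_
  · intro z hz
    have hz' : π z ∈ ⁅R.map π, R.map π⁆ := by
      rw [← Subgroup.map_commutator]; exact Subgroup.mem_map_of_mem π hz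
    have hzR : z ∈ R := Subgroup.commutator_le_left R R hz
    have h2 := (hmem' ⟨π z, Subgroup.mem_map_of_mem π hzR⟩).1 hz'
    rw [h, Subgroup.mem_bot] at h2
    exact (QuotientGroup.eq_one_iff z).1 (congrArg Subtype.val h2)
  · set Y' := (T.map (R.map π).subtype).comap π with hY'
    have hTR : T.map (R.map π).subtype ≤ R.map π := Subgroup.map_subtype_le T
    haveI hTn : (T.map (R.map π).subtype).Normal := ⟨fun a ha g => by
      obtain ⟨t, ht, rfl⟩ := ha
      refine ⟨conjBy (R.map π) g t, hT _ ⟨fun a b e => Subtype.ext ?_, ?_⟩ t ht, rfl⟩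
      · simpa using congrArg Subtype.val e
      · exact conjBy_surjective (R.map π) g⟩
    have hY'S : Y' ∉ S := by
      intro hS
      have hYY' : Y ≤ Y' := fun y hy => by
        change ((y : X) : X ⧸ Y) ∈ T.map (R.map π).subtype
        rw [(QuotientGroup.eq_one_iff y).2 hy]
        exact one_mem _
      apply hTne
      rw [eq_bot_iff]
      intro t ht
      obtain ⟨g, hg⟩ := hπs (t : X ⧸ Y)
      have hgY' : g ∈ Y' := by
        rw [hY', Subgroup.mem_comap, hg]; exact Subgroup.mem_map_of_mem _ ht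
      have hgY : g ∈ Y := hYmax hS hYY' hgY'
      rw [Subgroup.mem_bot]
      refine Subtype.ext ?_
      rw [← hg]
      exact (QuotientGroup.eq_one_iff g).2 hgY
    have hle : ⁅R, R⁆ ≤ Y' := by
      by_contra hno
      refine hY'S ⟨inferInstance, fun y hy => ?_, fun y hy => (hmem y).1 (hTR hy), hno⟩
      obtain ⟨t, ht, hty⟩ := hy
      refine ⟨resAut (quotAut γ Y hYi) (R.map π) K'.invariant t,
        hT _ (resAut_bijective _ _ _) t ht, ?_⟩
      change quotAut γ Y hYi (t : X ⧸ Y) = π (γ y)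
      rw [show (t : X ⧸ Y) = π y from hty]
      rfl
    intro z hz
    have h1 := (hmem' z).2 hz
    rw [← Subgroup.map_commutator] at h1
    obtain ⟨g, hg, hgz⟩ := h1
    have h2 : π g ∈ T.map (R.map π).subtype := hle hg
    rw [hgz] at h2
    obtain ⟨t, ht, htz⟩ := h2
    rwa [← Subtype.ext htz]

end CfsgLib.DegreeAntichain
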