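import Cfsg.Agent.Lib.DegreeAntichain.Reduce
import Cfsg.Agent.Lib.DegreeAntichain.Count

/-!
All non-linear degrees agree.
-/

set_option autoImplicit false
set_option linter.unusedSectionVars false

namespace CfsgLib.DegreeAntichain

open Cfsg CfsgLib.CharsMore CfsgLib.CharApps

universe u

/-- With the data all non-linear degrees agree. -/
theorem Data.degrees_eq {X : Type u} [Group X] [Fintype X] {γ : MulAut X} {q f : ℕ}
    (D : Data X γ q f)
    (hmove : ∀ L : Subgroup X, L.Normal → (Nat.card L).Coprime q → ∃ y, γ y * y⁻¹ ∉ L) :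
    ∀ χ ξ : IrrCharacter X, charDegree (χ : X → ℂ) ≠ 1 → charDegree (ξ : X → ℂ) ≠ 1 →
      charDegree (χ : X → ℂ) = charDegree (ξ : X → ℂ) := by
  classical
  obtain h | ⟨R, hR, x, hnil, -, K⟩ := D.reduce hmove
  · exact h
  haveI := hR
  haveI := Fintype.ofFinite R
  have hab := K.abelian D hnil
  have key : ∀ χ : IrrCharacter X, charDegree (χ : X → ℂ) ≠ 1 →
      charDegree (χ : X → ℂ) = (dual R).ker.index := by
    intro χ hχ
    obtain ⟨θ, hθ⟩ := exists_below R χ.2
    obtain ⟨μ, hμ⟩ := Chars.exists_hom_of_degree_one (Chars.isCharacter_of_irr θ.2)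
      (Chars.irr_abelian_degree (fun a b : R => Subtype.ext (hab a a.2 b b.2)) θ.2)
    have hθμ : (θ : R → ℂ) = linFun μ := hμ
    rw [hθμ] at hθ
    have hd : charDegree (χ : X → ℂ) = (inertia R (linFun μ)).index := by
      rw [over_degree R K.le_comm (isIrrCharacter_linFun μ)
        (Palfy.exists_ext_linear (K.isComplement D.prime) μ) χ hθ, charDegree_linFun, mul_one]
    have hμ1 : μ ≠ 1 := by
      rintro rfl
      obtain ⟨y, hy⟩ := (moved_iff R (1 : R →* ℂˣ)).2 (hd ▸ hχ)
      exact hy (map_one (dual R y))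
    rw [hd, K.inertia_eq D hμ1]
  intro χ ξ hχ hξ
  rw [key χ hχ, key ξ hξ]

end CfsgLib.DegreeAntichain
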