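import Cfsg.Agent.Lib.DegreeAntichain.Basic

/-!
A normal subgroup with an element of prime order acting without fixed points.
-/

set_option autoImplicit false
set_option linter.unusedSectionVars false

namespace CfsgLib.DegreeAntichain

open Cfsg CfsgLib.CharsMore CfsgLib.CharApps
open scoped commutatorElement

universe u

variable {X : Type u} [Group X] [Fintype X] {γ : MulAut X} {q f : ℕ}

theorem charDegree_linFun {M : Type*} [Group M] (μ : M →* ℂˣ) : charDegree (linFun μ) = 1 := by
  simp [charDegree, linFun]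

theorem hom_pow_card {M : Type*} [Group M] (μ : M →* ℂˣ) : μ ^ Nat.card M = 1 :=
  MonoidHom.ext fun m => by
    rw [MonoidHom.pow_apply, ← map_pow, pow_card_eq_one', map_one, MonoidHom.one_apply]

theorem moved_iff (M : Subgroup X) [M.Normal] (μ : M →* ℂˣ) :
    (∃ x, dual M x μ ≠ μ) ↔ (inertia M (linFun μ)).index ≠ 1 := by
  rw [Ne, Subgroup.index_eq_one, Subgroup.eq_top_iff', not_forall]
  exact exists_congr fun x => not_congr (dual_eq_iff M x μ)

theorem pull_injective (γ : MulAut X) (M : Subgroup X) (hM : ∀ m ∈ M, γ m ∈ M) :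
    Function.Injective (pull γ M hM) := fun μ ν h => MonoidHom.ext fun m => by
  obtain ⟨m, rfl⟩ := (resAut_bijective γ M hM).2 m
  exact DFunLike.congr_fun h m

theorem ker_dual_invariant (γ : MulAut X) (M : Subgroup X) [M.Normal] (hM : ∀ m ∈ M, γ m ∈ M)
    {x : X} (hx : x ∈ (dual M).ker) : γ x ∈ (dual M).ker :=
  (mem_ker_dual M).2 fun μ => pull_injective γ M hM (by
    rw [pull_dual]; exact (mem_ker_dual M).1 hx _)

/-- All moved linear characters have the kernel of the action as inertia group. -/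
theorem Data.inertia_eq_ker (D : Data X γ q f) (M : Subgroup X) [M.Normal]
    (hab : commutator X ≤ M) {H : Subgroup X} (hc : M.IsComplement' H)
    (hfix : ∀ (x : X) (v : M →* ℂˣ), (∀ y, dual M y (dual M x v / v) = dual M x v / v) →
      dual M x v = v)
    {μ : M →* ℂˣ} (hμ : ∃ x, dual M x μ ≠ μ) : inertia M (linFun μ) = (dual M).ker := by
  classical
  haveI := Fintype.ofFinite M
  refine le_antisymm (fun x hx => ?_) fun x hx => (dual_eq_iff M x μ).1 ((mem_ker_dual M).1 hx μ)
  rw [← dual_eq_iff] at hx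
  refine (mem_ker_dual M).2 fun w => ?_
  by_cases hw : ∃ y, dual M y w ≠ w
  swap
  · push Not at hw
    exact hw x
  refine stab_eq (fun y => (dual M y : (M →* ℂˣ) →* (M →* ℂˣ))) (dual_comm M hab) hfix ?_ hμ hw hx
  intro v w hv hw hle i hi
  replace hv := (moved_iff M v).1 hv
  replace hw := (moved_iff M w).1 hw
  have hdeg : ∀ ν : M →* ℂˣ, ∃ χ : IrrCharacter X,
      charDegree (χ : X → ℂ) = (inertia M (linFun ν)).index := fun ν => by
    obtain ⟨χ, hχ⟩ := exists_over M (isIrrCharacter_linFun ν)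
    exact ⟨χ, by rw [over_degree M hab (isIrrCharacter_linFun ν)
      (Palfy.exists_ext_linear hc ν) χ hχ, charDegree_linFun, mul_one]⟩
  obtain ⟨χ, hχ⟩ := hdeg v
  obtain ⟨ξ, hξ⟩ := hdeg w
  have hsub : inertia M (linFun v) ≤ inertia M (linFun w) := fun y hy =>
    (dual_eq_iff M y w).1 (hle y ((dual_eq_iff M y v).2 hy))
  have heq := D.anti ξ χ (by rwa [hξ]) (by rwa [hχ])
    (by rw [hξ, hχ]; exact Subgroup.index_dvd_of_le hsub)
  rw [hξ, hχ] at heq
  have hs : inertia M (linFun v) = inertia M (linFun w) := by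
    refine Subgroup.eq_of_le_of_card_ge hsub (le_of_eq ?_)
    have h1 := (inertia M (linFun v)).index_mul_card
    rw [← (inertia M (linFun w)).index_mul_card, heq] at h1
    exact (Nat.eq_of_mul_eq_mul_left (Nat.pos_of_ne_zero Subgroup.index_ne_zero_of_finite) h1).symm
  exact (dual_eq_iff M i v).2 (hs ▸ (dual_eq_iff M i w).1 hi)

theorem Data.ker_le_fixMod (D : Data X γ q f) (M : Subgroup X) [M.Normal]
    (hM : ∀ m ∈ M, γ m ∈ M) (hab : commutator X ≤ M) {H : Subgroup X} (hc : M.IsComplement' H)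
    {μ : M →* ℂˣ} (hμ : ∃ x, dual M x μ ≠ μ) : (dual M).ker ≤ fixMod γ M := by
  have h := D.inertia_le M hM hab (isIrrCharacter_linFun μ) (Palfy.exists_ext_linear hc μ)
    (by rw [charDegree_linFun, mul_one]; exact (moved_iff M μ).1 hμ)
  exact le_trans (fun x hx => (dual_eq_iff M x μ).1 ((mem_ker_dual M).1 hx μ)) h

/-- An invariant normal subgroup with abelian quotient on which an element of order `q` outside
the fixed part acts without fixed points. -/
structure Kern (γ : MulAut X) (q : ℕ) (R : Subgroup X) [R.Normal] (x : X) : Prop where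
  invariant : ∀ r ∈ R, γ r ∈ R
  le_comm : commutator X ≤ R
  pow : x ^ q = 1
  coprime : ¬ q ∣ Nat.card R
  fpf : ∀ r ∈ R, x * r = r * x → r = 1
  moves : x ∉ fixMod γ R

variable {R : Subgroup X} [R.Normal] {x : X}

/-- The centraliser of the element is a complement. -/
theorem Kern.isComplement (K : Kern γ q R x) (hq : q.Prime) :
    R.IsComplement' (Subgroup.centralizer ({x} : Set X)) := by
  refine Subgroup.isComplement'_of_disjoint_and_mul_eq_univ ?_ ?_
  · rw [Subgroup.disjoint_def]
    exact fun {r} hr hc => K.fpf r hr (Subgroup.mem_centralizer_singleton_iff.1 hc).symm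
  · rw [Set.eq_univ_iff_forall]
    intro g
    obtain ⟨h, hh, hx⟩ := exists_fixed_in_coset hq K.pow R K.coprime (m := g)
      (by
        have := K.le_comm (Subgroup.commutator_mem_commutator (Subgroup.mem_top x)
          (Subgroup.mem_top g))
        rwa [commutatorElement_def] at this)
    exact ⟨g * h⁻¹, by simpa using R.inv_mem hh, h,
      Subgroup.mem_centralizer_singleton_iff.2 hx.symm, by simp⟩

theorem Kern.centralizer_comm (K : Kern γ q R x) {a b : X}
    (ha : a ∈ Subgroup.centralizer ({x} : Set X)) (hb : b ∈ Subgroup.centralizer ({x} : Set X)) :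
    a * b = b * a := by
  rw [← commutatorElement_eq_one_iff_mul_comm]
  refine K.fpf _ (K.le_comm (Subgroup.commutator_mem_commutator (Subgroup.mem_top a)
    (Subgroup.mem_top b))) (Subgroup.mem_centralizer_singleton_iff.1 ?_).symm
  exact Subgroup.mul_mem _ (Subgroup.mul_mem _ (Subgroup.mul_mem _ ha hb)
    (Subgroup.inv_mem _ ha)) (Subgroup.inv_mem _ hb)

/-- The element fixes no non-trivial linear character. -/
theorem Kern.eq_one_of_fixed (K : Kern γ q R x) {μ : R →* ℂˣ} (h : dual R x μ = μ) : μ = 1 := by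
  have hn : ∀ r : R, x * r * x⁻¹ * (r : X)⁻¹ ∈ R := fun r =>
    R.mul_mem ((inferInstance : R.Normal).conj_mem _ r.2 x) (R.inv_mem r.2)
  let g : R → R := fun r => ⟨_, hn r⟩
  have hg : Function.Injective g := by
    intro r s e
    have h1 : x * r * x⁻¹ * (r : X)⁻¹ = x * s * x⁻¹ * (s : X)⁻¹ := congrArg Subtype.val e
    have h2 : x * ((s : X)⁻¹ * r) = ((s : X)⁻¹ * r) * x := by
      have := congrArg (fun t => x * (s : X)⁻¹ * x⁻¹ * t * r * x) h1
      simpa [mul_assoc] using this
    have h3 := K.fpf _ (R.mul_mem (R.inv_mem s.2) r.2) h2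
    exact Subtype.ext (inv_mul_eq_one.1 h3).symm
  refine MonoidHom.ext fun m => ?_
  obtain ⟨r, rfl⟩ := (Finite.injective_iff_surjective.1 hg) m
  have h2 := DFunLike.congr_fun h (conjBy R x r)
  rw [dual_apply, show conjBy R x⁻¹ (conjBy R x r) = r from Subtype.ext (by simp [mul_assoc])] at h2
  rw [show g r = conjBy R x r * r⁻¹ from Subtype.ext (by simp [g]), map_mul, map_inv, ← h2,
    mul_inv_cancel, MonoidHom.one_apply]

theorem Kern.moved (K : Kern γ q R x) {μ : R →* ℂˣ} (h : μ ≠ 1) : ∃ y, dual R y μ ≠ μ :=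
  ⟨x, fun e => h (K.eq_one_of_fixed e)⟩

/-- All non-trivial linear characters have the same inertia group. -/
theorem Kern.inertia_eq (K : Kern γ q R x) (D : Data X γ q f) {μ : R →* ℂˣ} (h : μ ≠ 1) :
    inertia R (linFun μ) = (dual R).ker :=
  D.inertia_eq_ker R K.le_comm (K.isComplement D.prime) (fun _ _ hv => by
    have h1 := K.eq_one_of_fixed (hv x)
    exact div_eq_one.1 h1) (K.moved h)

theorem Kern.dual_fix (K : Kern γ q R x) (D : Data X γ q f) {μ : R →* ℂˣ} (h : μ ≠ 1) {y : X}
    (hy : dual R y μ = μ) : y ∈ (dual R).ker :=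
  K.inertia_eq D h ▸ (dual_eq_iff R y μ).1 hy

theorem Kern.ker_le (K : Kern γ q R x) (D : Data X γ q f) {μ : R →* ℂˣ} (h : μ ≠ 1) :
    (dual R).ker ≤ fixMod γ R :=
  D.ker_le_fixMod R K.invariant K.le_comm (K.isComplement D.prime) (K.moved h)

end CfsgLib.DegreeAntichain
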