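import Cfsg.Agent.Lib.DegreeAntichain.Kern
import Cfsg.Agent.Lib.CharsMore.CdTwo
import Cfsg.Agent.Lib.CharsMore.CoprimeClass
import Cfsg.Agent.Lib.Base.ThompsonFPF
import Cfsg.Agent.S4456

/-!
From a degree antichain to a fixed-point-free element on the derived subgroup of the complement.
-/

set_option autoImplicit false
set_option linter.unusedSectionVars false

namespace CfsgLib.DegreeAntichain

open Cfsg CfsgLib.CharsMore CfsgLib.CharApps
open scoped commutatorElement

universe u

variable {X : Type u} [Group X] [Fintype X] {γ : MulAut X} {q f : ℕ}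

theorem irr_deg_dvd_card {Y : Type*} [Group Y] [Finite Y] (χ : IrrCharacter Y) :
    charDegree (χ : Y → ℂ) ∣ Nat.card Y := by
  obtain ⟨d, -, hd, hdd⟩ := Chars.irr_degree_dvd_card χ.2
  rw [deg_eq] at hd
  exact (show charDegree (χ : Y → ℂ) = d by exact_mod_cast hd) ▸ hdd

theorem eq_one_of_pow {E : Type*} [Monoid E] {u : E} {m k : ℕ} (h1 : u ^ m = 1) (h2 : u ^ k = 1)
    (hc : Nat.Coprime m k) : u = 1 := by
  have h := pow_gcd_eq_one.2 ⟨h1, h2⟩
  rwa [hc, pow_one] at h

theorem pow_eq_one_of_iterate {E : Type*} [CommGroup E] {d : Monoid.End E} {u v : E}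
    (hv : d v = u * v) (hu : d u = u) {m : ℕ} (hm : (d ^ m) v = v) : u ^ m = 1 := by
  have hi : ∀ i, (d ^ i) v = u ^ i * v := by
    intro i
    induction i with
    | zero => rw [pow_zero, pow_zero, one_mul]; rfl
    | succ i ih =>
      rw [pow_succ' d]
      change d ((d ^ i) v) = _
      rw [ih, map_mul, map_pow, hu, hv, pow_succ, mul_assoc]
  rw [hi, mul_eq_right] at hm
  exact hm

/-- The action on the linear characters of the complement is trivial. -/
theorem Data.dual_ker_eq_top (D : Data X γ q f) (L : Subgroup X) [L.Normal]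
    (hL : ∀ m ∈ L, γ m ∈ L) (hcop : (Nat.card L).Coprime q) {k : ℕ} (hidx : L.index = q ^ k)
    (hab : commutator X ≤ L) {θ : IrrCharacter L} (hθ : charDegree (θ : L → ℂ) ≠ 1)
    (hmove : ∃ y, γ y * y⁻¹ ∉ L) : (dual L).ker = ⊤ := by
  classical
  haveI := Fintype.ofFinite L
  have hcard : (Nat.card L).Coprime L.index := by rw [hidx]; exact hcop.pow_right k
  obtain ⟨Q, hQ⟩ := Subgroup.exists_right_complement'_of_coprime hcard
  set B := (dual L).ker with hB
  by_contra htop
  have hpowL : ∀ y : X, y ^ q ^ k ∈ L := fun y => hidx ▸ L.pow_index_mem y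
  -- a linear character killed by `q` and `|L|` is trivial
  have hkill : ∀ (v : L →* ℂˣ) (j : ℕ), v ^ q ^ j = 1 → v = 1 := by
    intro v j hj
    exact eq_one_of_pow (u := v) (by exact hj) (by exact hom_pow_card v) (hcop.symm.pow_left j)
  have hfix : ∀ (y : X) (v : L →* ℂˣ), (∀ z, dual L z (dual L y v / v) = dual L y v / v) →
      dual L y v = v := by
    intro y v hv
    have h1 : ((dual L y) ^ q ^ k) v = v := by
      rw [← map_pow]
      exact (mem_ker_dual L).1 (le_ker_dual L (hpowL y)) v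
    have h2 := pow_eq_one_of_iterate (d := dual L y) (u := dual L y v / v) (v := v)
      (div_mul_cancel (dual L y v) v).symm (hv y) h1
    exact div_eq_one.1 (hkill _ k (by exact h2))
  obtain ⟨lam, hlam⟩ : ∃ lam : L →* ℂˣ, ∃ y, dual L y lam ≠ lam := by
    by_contra hno
    push Not at hno
    exact htop ((Subgroup.eq_top_iff' _).2 fun y => (mem_ker_dual L).2 fun μ => hno μ y)
  have hin : ∀ v : L →* ℂˣ, (∃ y, dual L y v ≠ v) → inertia L (linFun v) = B :=
    fun v hv => D.inertia_eq_ker L hab hQ hfix hv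
  have hBD : B ≤ fixMod γ L := D.ker_le_fixMod L hL hab hQ hlam
  have hBi : ∀ b ∈ B, γ b ∈ B := fun b hb => ker_dual_invariant γ L hL hb
  have hLB : L ≤ B := le_ker_dual L
  have habB : commutator X ≤ B := hab.trans hLB
  -- at most one subgroup of order `q` in `X / B`
  have huniq : ∀ b c : X, b ^ q ∈ B → c ^ q ∈ B → c ∉ B → ∃ j, b * c ^ j ∈ B := by
    intro b c hb hc hcB
    by_contra hno
    push Not at hno
    let P : Subgroup (L →* ℂˣ) :=
      { carrier := {u | ∀ y, dual L y u = u}
        one_mem' := fun y => map_one _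
        mul_mem' := fun {u v} hu hv y => by rw [map_mul, hu, hv]
        inv_mem' := fun {u} hu y => by rw [map_inv, hu] }
    have hmem : ∀ z, z ∉ B → ∀ u, dual L z u = u → u ∈ P := by
      intro z hz u hzu
      by_contra hu
      have hu' : ∃ y, dual L y u ≠ u := not_forall.1 hu
      exact hz (hin u hu' ▸ (dual_eq_iff L z u).1 hzu)
    have he := pow_mem_of_free (commute_dual L hab b c) D.prime (e := lam)
      (by rw [← map_pow]; exact (mem_ker_dual L).1 hb lam)
      (by rw [← map_pow]; exact (mem_ker_dual L).1 hc lam) P (fun u hu => hu b)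
      (hmem c hcB) (fun j u hu => hmem _ (hno j) u (by rw [map_mul, map_pow]; exact hu))
    obtain ⟨y, hy⟩ := hlam
    apply hy
    have hgen : ∀ {E : Type u} [CommGroup E] (d : Monoid.End E) (e : E),
        d (e ^ q) = e ^ q → (d e / e) ^ q ^ 1 = 1 := fun d e h => by
      rw [pow_one, div_pow, div_eq_one, ← map_pow]
      exact h
    have h1 := hgen (dual L y) lam (he y)
    exact div_eq_one.1 (hkill _ 1 h1)
  -- fixed elements act trivially
  have hDB : fixMod γ L ≤ B := by
    intro d hd
    by_contra hdB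
    obtain ⟨d₀, hd₀, hd₀B, hd₀q⟩ : ∃ d₀ ∈ fixMod γ L, d₀ ∉ B ∧ d₀ ^ q ∈ B := by
      have hex : ∃ j, d ^ q ^ j ∈ B := ⟨k, hLB (hpowL d)⟩
      have hpos : 0 < Nat.find hex := by
        rw [Nat.find_pos]; simpa using hdB
      refine ⟨d ^ q ^ (Nat.find hex - 1), Subgroup.pow_mem _ hd _,
        Nat.find_min hex (by omega), ?_⟩
      rw [← pow_mul, ← pow_succ, Nat.sub_add_cancel hpos]
      exact Nat.find_spec hex
    have key : ∀ j y, y ^ q ^ j ∈ B → γ y * y⁻¹ ∈ B := by
      intro j
      induction j with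
      | zero =>
        intro y hy
        rw [pow_zero, pow_one] at hy
        exact B.mul_mem (hBi y hy) (B.inv_mem hy)
      | succ j ih =>
        intro y hy
        set b := γ y * y⁻¹ with hb
        have h1 := ih (y ^ q) (by rwa [← pow_mul, ← pow_succ'])
        have hbq : b ^ q ∈ B := by
          rw [← QuotientGroup.eq_one_iff] at h1 ⊢
          rw [hb, QuotientGroup.mk_pow, QuotientGroup.mk_mul,
            (show Commute _ _ from mk_comm habB (γ y) y⁻¹).mul_pow, ← QuotientGroup.mk_pow,
            ← QuotientGroup.mk_pow, ← QuotientGroup.mk_mul, inv_pow]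
          rwa [map_pow] at h1
        obtain ⟨i, hi⟩ := huniq b d₀ hbq hd₀q hd₀B
        have hbD : b ∈ fixMod γ L :=
          ((fixMod γ L).mul_mem_cancel_right (Subgroup.pow_mem _ hd₀ i)).1 (hBD hi)
        exact eq_one_of_pow_mem hbq (hLB (D.pow_mem hL hab hbD))
          ((D.prime.coprime_iff_not_dvd).2 D.not_dvd)
    obtain ⟨y, hy⟩ := hmove
    apply hy
    have hyB := key k y (hLB (hpowL y))
    exact eq_one_of_pow_mem (hpowL _) (D.pow_mem hL hab (hBD hyB))
      (Nat.Coprime.pow_left k ((D.prime.coprime_iff_not_dvd).2 D.not_dvd))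
  -- compare with a non-linear character
  have hext := Palfy.exists_ext_inertia θ.2 hcard
  have hT : inertia L (θ : L → ℂ) ≤ B := le_trans (D.inertia_le L hL hab θ.2 hext
    (fun h => hθ (Nat.eq_one_of_mul_eq_one_left h))) hDB
  obtain ⟨χ, hχ⟩ := exists_over L θ.2
  obtain ⟨ξ, hξ⟩ := exists_over L (isIrrCharacter_linFun lam)
  have hχd := over_degree L hab θ.2 hext χ hχ
  have hξd : charDegree (ξ : X → ℂ) = B.index := by
    rw [over_degree L hab (isIrrCharacter_linFun lam) (Palfy.exists_ext_linear hQ lam) ξ hξ,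
      charDegree_linFun, mul_one, hin lam hlam]
  have heq := D.anti ξ χ (by rw [hξd, ← hin lam hlam]; exact (moved_iff L lam).1 hlam)
    (by rw [hχd]; exact fun h => hθ (Nat.eq_one_of_mul_eq_one_left h))
    (by rw [hξd, hχd]; exact (Subgroup.index_dvd_of_le hT).mul_right _)
  rw [hξd, hχd] at heq
  have hdvd : (inertia L (θ : L → ℂ)).index * charDegree (θ : L → ℂ) ∣
      (inertia L (θ : L → ℂ)).index * 1 := by
    rw [mul_one, ← heq]; exact Subgroup.index_dvd_of_le hT
  exact hθ (Nat.dvd_one.1 ((Nat.mul_dvd_mul_iff_left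
    (Nat.pos_of_ne_zero Subgroup.index_ne_zero_of_finite)).1 hdvd))

/-- The reduction: either all non-linear degrees agree, or there is a kernel with an element
acting without fixed points. -/
theorem Data.reduce (D : Data X γ q f)
    (hmove : ∀ L : Subgroup X, L.Normal → (Nat.card L).Coprime q → ∃ y, γ y * y⁻¹ ∉ L) :
    (∀ χ ξ : IrrCharacter X, charDegree (χ : X → ℂ) ≠ 1 → charDegree (ξ : X → ℂ) ≠ 1 →
        charDegree (χ : X → ℂ) = charDegree (ξ : X → ℂ)) ∨
      ∃ (R : Subgroup X) (_ : R.Normal) (x : X), Group.IsNilpotent R ∧ R ≠ ⊥ ∧ Kern γ q R x := by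
  classical
  obtain ⟨L, hLn, hcop, k, hidx⟩ := Cfsg.Agent.S4456.result q D.prime D.dvd
  haveI := Fintype.ofFinite L
  haveI := Fact.mk D.prime
  obtain ⟨y₀, hy₀⟩ := hmove L hLn hcop
  have hcard : (Nat.card L).Coprime L.index := by rw [hidx]; exact hcop.pow_right k
  have hL : ∀ m ∈ L, γ m ∈ L := by
    intro m hm
    refine eq_one_of_pow_mem (M := L) (m := Nat.card L) (k := L.index) ?_ (L.pow_index_mem _) hcard
    rw [← map_pow, orderOf_dvd_iff_pow_eq_one.1 (Subgroup.orderOf_dvd_natCard L hm), map_one]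
    exact L.one_mem
  -- degrees which are powers of `q`
  by_cases hLab : ∀ a ∈ L, ∀ b ∈ L, a * b = b * a
  · left
    have hp : ∀ χ : IrrCharacter X, ∃ i, charDegree (χ : X → ℂ) = q ^ i := by
      intro χ
      obtain ⟨j, hj, hjd⟩ := ito_degree_dvd L hLab χ.2
      rw [deg_eq] at hj
      rw [hidx] at hjd
      obtain ⟨i, -, hi⟩ := (Nat.dvd_prime_pow D.prime).1 hjd
      exact ⟨i, (show charDegree (χ : X → ℂ) = j by exact_mod_cast hj).trans hi⟩
    intro χ ξ hχ hξ
    obtain ⟨i, hi⟩ := hp χ
    obtain ⟨j, hj⟩ := hp ξ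
    rcases le_total i j with h | h
    · exact D.anti χ ξ hχ hξ (by rw [hi, hj]; exact pow_dvd_pow q h)
    · exact (D.anti ξ χ hξ hχ (by rw [hi, hj]; exact pow_dvd_pow q h)).symm
  right
  obtain ⟨θ, hθ⟩ : ∃ θ : IrrCharacter L, charDegree (θ : L → ℂ) ≠ 1 := by
    by_contra hno
    push Not at hno
    exact hLab (CdTwo.abelian_of_linear L fun θ => by rw [deg_eq, hno, Nat.cast_one])
  have hθq : (charDegree (θ : L → ℂ)).Coprime q := hcop.coprime_dvd_left (irr_deg_dvd_card θ)
  obtain ⟨Q, hQ⟩ := Subgroup.exists_right_complement'_of_coprime hcard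
  have hQc : Nat.card Q = q ^ k := by rw [← hQ.symm.index_eq_card, hidx]
  -- `X / L` is abelian
  have hab : commutator X ≤ L := by
    set T := inertia L (θ : L → ℂ)
    have hLT : L ≤ T := le_inertia L (Chars.isClassFunction_irr θ)
    haveI := Fintype.ofFinite (T.subgroupOf Q)
    haveI := Fintype.ofFinite Q
    have hext := Palfy.exists_ext_inertia θ.2 hcard
    have hd1 : T.index * charDegree (θ : L → ℂ) ≠ 1 := fun h =>
      hθ (Nat.eq_one_of_mul_eq_one_left h)
    obtain ⟨χ₁, hχ₁⟩ := Palfy.exists_degree_product hQ θ.2 hext (Chars.principal _)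
    rw [show charDegree (Chars.principal (T.subgroupOf Q) : T.subgroupOf Q → ℂ) = 1 by
      simp [charDegree, Chars.principal_apply], mul_one] at hχ₁
    have hTab : ∀ a ∈ T.subgroupOf Q, ∀ b ∈ T.subgroupOf Q, a * b = b * a :=
      CdTwo.abelian_of_linear _ fun β => by
        obtain ⟨χ, hχ⟩ := Palfy.exists_degree_product hQ θ.2 hext β
        have := D.anti χ₁ χ (by rwa [hχ₁]) (fun h => hd1 (Nat.eq_one_of_mul_eq_one_right
          (hχ.symm.trans h))) (by rw [hχ₁, hχ]; exact dvd_mul_right _ _)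
        rw [hχ₁, hχ, eq_comm, mul_eq_left₀ (Nat.mul_ne_zero Subgroup.index_ne_zero_of_finite
          (deg_pos θ).ne')] at this
        rw [deg_eq, this, Nat.cast_one]
    have hQab : ∀ a ∈ Q, ∀ b ∈ Q, a * b = b * a := CdTwo.abelian_of_linear Q fun β => by
      by_contra hne
      rw [deg_eq, Nat.cast_eq_one] at hne
      have hs : Function.Surjective (Palfy.proj hQ) := fun l => ⟨l, Palfy.proj_coe hQ l⟩
      let β' : IrrCharacter X := ⟨_, Chars.isIrrCharacter_comp (Palfy.proj hQ) hs β.2⟩
      have hβ' : charDegree (β' : X → ℂ) = charDegree (β : Q → ℂ) := by simp [β', charDegree]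
      have hle : charDegree (β : Q → ℂ) ≤ T.index := by
        rw [← Palfy.index_subgroupOf_compl hQ hLT]
        obtain ⟨n, ρ, hρ, hρc⟩ := β.2
        have h1 := Chars.finrank_le_index_of_abelian ρ (T.subgroupOf Q) hTab
        have h2 : charDegree (β : Q → ℂ) = Module.finrank ℂ (Fin n → ℂ) := by
          rw [← hρc]; simp [charDegree]
        rw [h2]; exact h1
      obtain ⟨i, -, hi⟩ := (Nat.dvd_prime_pow D.prime).1 (hQc ▸ irr_deg_dvd_card β)
      obtain ⟨j, -, hj⟩ := (Nat.dvd_prime_pow D.prime).1 (hidx ▸ Subgroup.index_dvd_of_le hLT)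
      have hdvd : charDegree (β : Q → ℂ) ∣ T.index := by
        rw [hi, hj] at hle ⊢
        exact pow_dvd_pow q ((Nat.pow_le_pow_iff_right D.prime.one_lt).1 hle)
      have := D.anti β' χ₁ (by rwa [hβ']) (by rwa [hχ₁])
        (by rw [hβ', hχ₁]; exact hdvd.mul_right _)
      rw [hβ', hχ₁, hi] at this
      exact hθ (Nat.eq_one_of_dvd_coprimes (hθq.pow_right i) dvd_rfl (this ▸ dvd_mul_left _ _))
    rw [commutator_def, Subgroup.commutator_le]
    intro a _ b _
    have h1 : Palfy.proj hQ ⁅a, b⁆ = 1 := by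
      rw [map_commutatorElement, commutatorElement_eq_one_iff_mul_comm]
      exact Subtype.ext (hQab _ (Palfy.proj hQ a).2 _ (Palfy.proj hQ b).2)
    have h2 := Palfy.mul_proj_inv_mem hQ ⁅a, b⁆
    rwa [h1, OneMemClass.coe_one, inv_one, mul_one] at h2
  have htop := D.dual_ker_eq_top L hL hcop hidx hab hθ ⟨y₀, hy₀⟩
  -- the element of order `q`
  obtain ⟨x, hxQ, hxq, hxD⟩ : ∃ x ∈ Q, x ^ q = 1 ∧ x ∉ fixMod γ L := by
    set b := γ y₀ * y₀⁻¹ with hb
    have hex : ∃ j, b ^ q ^ j ∈ L := ⟨k, hidx ▸ L.pow_index_mem b⟩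
    have hpos : 0 < Nat.find hex := by rw [Nat.find_pos]; simpa using hy₀
    set b₀ := b ^ q ^ (Nat.find hex - 1) with hb₀
    have hb₀L : b₀ ∉ L := Nat.find_min hex (by omega)
    have hb₀q : b₀ ^ q ∈ L := by
      rw [hb₀, ← pow_mul, ← pow_succ, Nat.sub_add_cancel hpos]
      exact Nat.find_spec hex
    refine ⟨Palfy.proj hQ b₀, (Palfy.proj hQ b₀).2, ?_, fun hxD => hb₀L ?_⟩
    · rw [← SubmonoidClass.coe_pow, ← map_pow, Palfy.proj_eq_one hQ hb₀q, OneMemClass.coe_one]
    · have h1 : b₀ ∈ fixMod γ L := by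
        have := (fixMod γ L).mul_mem (le_fixMod hL (Palfy.mul_proj_inv_mem hQ b₀)) hxD
        rwa [inv_mul_cancel_right] at this
      set y := y₀ ^ q ^ (Nat.find hex - 1)
      have h2 : γ y * y⁻¹ * b₀⁻¹ ∈ L := by
        rw [← QuotientGroup.eq_one_iff, QuotientGroup.mk_mul, QuotientGroup.mk_inv, mul_inv_eq_one,
          hb₀, QuotientGroup.mk_pow,
          show (b : X ⧸ L) = ((γ y₀ : X) : X ⧸ L) * ((y₀⁻¹ : X) : X ⧸ L) from rfl,
          (show Commute _ _ from mk_comm hab (γ y₀) y₀⁻¹).mul_pow]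
        simp [y]
      have h3 : γ y * y⁻¹ ∈ fixMod γ L := by
        have := (fixMod γ L).mul_mem (le_fixMod hL h2) h1
        rwa [inv_mul_cancel_right] at this
      have h4 : b₀ ^ f ∈ L := by
        have h5 := D.pow_mem hL hab h3
        rw [← QuotientGroup.eq_one_iff] at h2 h5 ⊢
        rw [QuotientGroup.mk_mul, QuotientGroup.mk_inv, mul_inv_eq_one] at h2
        rw [QuotientGroup.mk_pow, ← h2, ← QuotientGroup.mk_pow, h5]
      exact eq_one_of_pow_mem hb₀q h4 ((D.prime.coprime_iff_not_dvd).2 D.not_dvd)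
  -- the derived subgroup of the complement
  set R : Subgroup X := ⁅L, L⁆ with hRdef
  have hRn : R.Normal := inferInstance
  have hRL : R ≤ L := Subgroup.commutator_le_left L L
  have hRmap : (commutator L).map L.subtype = R := Subgroup.map_subtype_commutator L
  have hmemR : ∀ z : L, (z : X) ∈ R ↔ z ∈ commutator L := fun z => by
    rw [← hRmap]
    exact Subgroup.mem_map_iff_mem L.subtype_injective
  have hcent : ∀ (a : X) (m : L), a * m * a⁻¹ * (m : X)⁻¹ ∈ R := by
    intro a m
    have hz : conjBy L a m * m⁻¹ ∈ commutator L := by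
      by_contra hno
      obtain ⟨μ, -, hμ⟩ := exists_hom_ne_one (commutator L) le_rfl hno
      apply hμ
      have h := DFunLike.congr_fun ((mem_ker_dual L).1 (htop ▸ Subgroup.mem_top a⁻¹) μ) m
      rw [dual_apply, inv_inv] at h
      rw [map_mul, map_inv, h, mul_inv_cancel]
    simpa using (hmemR _).2 hz
  have hqR : ¬ q ∣ Nat.card R := fun h => D.prime.not_dvd_one
    (hcop ▸ Nat.dvd_gcd (h.trans (Subgroup.card_dvd_of_le hRL)) dvd_rfl)
  have hfpf : ∀ r ∈ R, x * r = r * x → r = 1 := by
    intro r hr hxr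
    haveI : Finite (ConjClasses L) := Finite.of_surjective _ ConjClasses.mk_surjective
    set σ : MulAut L := MulAut.conjNormal x
    let Fix := {C : ConjClasses L // ConjClasses.map σ.toMonoidHom C = C}
    let π : Fix → Abelianization L := fun C => Quotient.liftOn C.1 Abelianization.of fun a b hab => by
      obtain ⟨c, rfl⟩ := isConj_iff.1 hab
      rw [map_mul, map_mul, map_inv, mul_right_comm, mul_inv_cancel, one_mul]
    have hcomm : ∀ g : L, x * g = g * x → σ g = g := fun g hg => Subtype.ext (by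
      rw [MulAut.conjNormal_apply, hg, mul_inv_cancel_right])
    let mkFix : ∀ g : L, x * g = g * x → Fix := fun g hg =>
      ⟨ConjClasses.mk g, congrArg ConjClasses.mk (hcomm g hg)⟩
    have hπ : ∀ g hg, π (mkFix g hg) = Abelianization.of g := fun g hg => rfl
    have hsurj : Function.Surjective π := by
      intro a
      induction a using QuotientGroup.induction_on with | _ m => ?_
      obtain ⟨g, hg, hgx⟩ := exists_fixed_in_coset D.prime hxq R hqR (hcent x m)
      have hgL : g ∈ L := by
        have := L.mul_mem (hRL hg) m.2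
        rwa [inv_mul_cancel_right] at this
      refine ⟨mkFix ⟨g, hgL⟩ hgx, ?_⟩
      rw [hπ _ hgx]
      change ((⟨g, hgL⟩ : L) : L ⧸ commutator L) = (m : L ⧸ commutator L)
      rw [QuotientGroup.eq_iff_div_mem, div_eq_mul_inv, ← hmemR]
      exact hg
    have hinj : Function.Injective π := by
      refine ((Nat.bijective_iff_surjective_and_card π).2 ⟨hsurj, ?_⟩).1
      have e : Nat.card (Abelianization L) = (commutator L).index := rfl
      rw [e, ← Chars.card_degree_one, Chars.card_fixed_classes_eq_card_fixed_irr σ]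
      refine Nat.card_congr (Equiv.subtypeEquivRight fun χ => ⟨fun h => ?_, fun h => ?_⟩)
      · by_contra hne
        rw [deg_eq, Nat.cast_eq_one] at hne
        apply hxD
        refine D.inertia_le L hL hab χ.2 (Palfy.exists_ext_inertia χ.2 hcard)
          (fun h1 => hne (Nat.eq_one_of_mul_eq_one_left h1)) ?_
        rw [mem_inertia]
        intro n
        have h2 := congrFun h n
        have e2 : conjBy L x n = σ n := Subtype.ext (by simp [σ])
        rw [e2]; exact h2
      · obtain ⟨μ, hμ⟩ := Chars.exists_hom_of_degree_one (Chars.isCharacter_of_irr χ.2) h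
        funext n
        have h2 := DFunLike.congr_fun ((mem_ker_dual L).1 (htop ▸ Subgroup.mem_top x⁻¹) μ) n
        rw [dual_apply, inv_inv, show conjBy L x n = σ n from Subtype.ext (by simp [σ])] at h2
        rw [Function.comp_apply, hμ]
        exact congrArg Units.val h2
    have hx1 : x * ((1 : L) : X) = ((1 : L) : X) * x := by simp
    have h1 : π (mkFix ⟨r, hRL hr⟩ hxr) = π (mkFix 1 hx1) := by
      rw [hπ ⟨r, hRL hr⟩ hxr, hπ 1 hx1, map_one]
      exact (QuotientGroup.eq_one_iff _).2 ((hmemR _).1 hr)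
    have h2 := congrArg Subtype.val (hinj h1)
    exact congrArg Subtype.val (isConj_one_right.1 (ConjClasses.mk_eq_mk_iff_isConj.1 h2).symm)
  have hRinv : ∀ r ∈ R, γ r ∈ R := by
    intro r hr
    have h := Subgroup.mem_map_of_mem γ.toMonoidHom hr
    rw [hRdef, Subgroup.map_commutator] at h
    exact Subgroup.commutator_mono (Subgroup.map_le_iff_le_comap.2 hL)
      (Subgroup.map_le_iff_le_comap.2 hL) h
  have hRab : commutator X ≤ R := by
    rw [commutator_def, Subgroup.commutator_le]
    intro a _ b _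
    rw [← QuotientGroup.eq_one_iff, ← QuotientGroup.mk'_apply, map_commutatorElement,
      commutatorElement_eq_one_iff_mul_comm]
    -- write both elements through the complement
    have hsplit : ∀ a : X, ∃ m : L, ∃ y : Q, a = m * y := fun a => by
      obtain ⟨⟨m, y⟩, h⟩ := hQ.2 a
      exact ⟨m, y, h.symm⟩
    have hz : ∀ (m : L) (a : X), ((m : X) : X ⧸ R) * (a : X ⧸ R) = a * (m : X) := fun m a => by
      rw [← commutatorElement_eq_one_iff_mul_comm, ← commutatorElement_inv, inv_eq_one]
      exact (QuotientGroup.eq_one_iff (⁅a, (m : X)⁆ : X)).2 (hcent a m)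
    obtain ⟨m, y, rfl⟩ := hsplit a
    obtain ⟨n, z, rfl⟩ := hsplit b
    have hQab : ((y : X) : X ⧸ R) * (z : X) = (z : X) * (y : X) := by
      rw [← QuotientGroup.mk_mul, ← QuotientGroup.mk_mul]
      congr 1
      have h1 : Palfy.proj hQ ⁅(y : X), (z : X)⁆ = 1 :=
        Palfy.proj_eq_one hQ (hab (Subgroup.commutator_mem_commutator (Subgroup.mem_top _)
          (Subgroup.mem_top _)))
      rw [map_commutatorElement, Palfy.proj_coe, Palfy.proj_coe,
        commutatorElement_eq_one_iff_mul_comm] at h1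
      exact congrArg Subtype.val h1
    simp only [QuotientGroup.mk'_apply, QuotientGroup.mk_mul]
    rw [mul_assoc, ← mul_assoc ((y : X) : X ⧸ R), ← hz n y, mul_assoc ((n : X) : X ⧸ R), hQab,
      ← mul_assoc, hz m (n : X), mul_assoc ((n : X) : X ⧸ R), ← mul_assoc ((m : X) : X ⧸ R),
      hz m (z : X)]
    simp only [mul_assoc]
  have hRbot : R ≠ ⊥ := fun h => hLab fun a ha b hb =>
    commutatorElement_eq_one_iff_mul_comm.1 (Subgroup.mem_bot.1
      (h ▸ Subgroup.commutator_mem_commutator ha hb))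
  refine ⟨R, hRn, x, ?_, hRbot, hRinv, hRab, hxq, hqR, hfpf, fun h => hxD ?_⟩
  · refine Base.isNilpotent_of_fixedPointFree (MulAut.conjNormal x : MulAut R) (fun r hr => ?_)
      D.prime (by rw [← map_pow, hxq, map_one])
    refine Subtype.ext (hfpf r r.2 ?_)
    have := congrArg Subtype.val hr
    rw [MulAut.conjNormal_apply, mul_inv_eq_iff_eq_mul] at this
    exact this
  · exact hRL h

end CfsgLib.DegreeAntichain
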