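import Cfsg.Agent.Lib.DegreeAntichain.Core
import Cfsg.Prelude.Def_DegreeGraph
import Mathlib.Combinatorics.SimpleGraph.Connectivity.Connected

/-!
Two components in the degree graph and an antichain of degrees: three degrees.
-/

set_option autoImplicit false
set_option linter.unusedSectionVars false

namespace CfsgLib.DegreeAntichain

open Cfsg CfsgLib.CharsMore CfsgLib.CharApps
open scoped commutatorElement

universe u

variable {G : Type u} [Group G] [Fintype G]

theorem mem_charDegrees (χ : IrrCharacter G) : charDegree (χ : G → ℂ) ∈ charDegrees G := ⟨χ, rfl⟩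

/-- If all primes of the graph are linked to one prime there is at most one component. -/
theorem card_components_le_one {r : ℕ} (hr : r ∈ degreePrimes G)
    (h : ∀ v : degreePrimes G,
      ((degreeGraph G).induce (degreePrimes G)).Reachable v ⟨r, hr⟩) :
    Nat.card ((degreeGraph G).induce (degreePrimes G)).ConnectedComponent ≠ 2 := by
  haveI : Subsingleton ((degreeGraph G).induce (degreePrimes G)).ConnectedComponent := by
    refine ⟨fun a b => ?_⟩
    induction a using SimpleGraph.ConnectedComponent.ind with | _ v => ?_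
    induction b using SimpleGraph.ConnectedComponent.ind with | _ w => ?_
    exact SimpleGraph.ConnectedComponent.sound ((h v).trans (h w).symm)
  have := Finite.card_le_one_iff_subsingleton.2 this
  omega

/-- Primes dividing one degree are linked. -/
theorem reachable_of_dvd {d : ℕ} (hd : d ∈ charDegrees G) (v w : degreePrimes G)
    (hv : (v : ℕ) ∣ d) (hw : (w : ℕ) ∣ d) :
    ((degreeGraph G).induce (degreePrimes G)).Reachable v w := by
  rcases eq_or_ne v w with rfl | hne
  · exact SimpleGraph.Reachable.refl _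
  · have hne' : (v : ℕ) ≠ w := fun e => hne (Subtype.ext e)
    refine SimpleGraph.Adj.reachable (show (degreeGraph G).Adj v w from ?_)
    exact ⟨hne', v.2.1, w.2.1, d, hd,
      ((Nat.coprime_primes v.2.1 w.2.1).2 hne').mul_dvd_of_dvd_of_dvd hv hw⟩

theorem exists_prime_of_ne (hne : Nat.card ((degreeGraph G).induce
    (degreePrimes G)).ConnectedComponent = 2) :
    ∃ χ : IrrCharacter G, charDegree (χ : G → ℂ) ≠ 1 := by
  by_contra hno
  push Not at hno
  haveI : IsEmpty (degreePrimes G) := ⟨fun ⟨p, hp, d, ⟨χ, hχ⟩, hpd⟩ =>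
    hp.ne_one (Nat.dvd_one.1 ((hno χ) ▸ hχ ▸ hpd))⟩
  haveI : IsEmpty ((degreeGraph G).induce (degreePrimes G)).ConnectedComponent :=
    ⟨fun c => c.ind fun v => isEmptyElim v⟩
  rw [Nat.card_of_isEmpty] at hne
  omega

/-- A prime dividing all non-linear degrees connects the graph. -/
theorem false_of_common_prime (htwo : Nat.card ((degreeGraph G).induce
    (degreePrimes G)).ConnectedComponent = 2) {p : ℕ} (hp : p.Prime)
    (h : ∀ χ : IrrCharacter G, charDegree (χ : G → ℂ) ≠ 1 → p ∣ charDegree (χ : G → ℂ)) :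
    False := by
  obtain ⟨χ₀, hχ₀⟩ := exists_prime_of_ne htwo
  refine card_components_le_one (r := p) ⟨hp, _, mem_charDegrees χ₀, h χ₀ hχ₀⟩ (fun v => ?_) htwo
  obtain ⟨hv, d, ⟨χ, rfl⟩, hvd⟩ := v.2
  exact reachable_of_dvd (mem_charDegrees χ) _ _ hvd
    (h χ fun e => hv.ne_one (Nat.dvd_one.1 (e ▸ hvd)))

/-- A nilpotent group with all proper quotients abelian is a group of prime power order. -/
theorem exists_isPGroup {X : Type u} [Group X] [Finite X] [Group.IsNilpotent X]
    (hX : commutator X ≠ ⊥)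
    (hmin : ∀ (W : Subgroup X) [W.Normal], W ≠ ⊥ → commutator X ≤ W) :
    ∃ p : ℕ, p.Prime ∧ IsPGroup p X := by
  obtain ⟨p, hp, hpd⟩ := Nat.exists_prime_and_dvd
    (fun h => hX ((Subgroup.eq_bot_iff_card _).2 h) : Nat.card (commutator X) ≠ 1)
  haveI := Fact.mk hp
  obtain ⟨⟨z, hz⟩, hzo⟩ := exists_prime_orderOf_dvd_card' p hpd
  refine ⟨p, hp, IsPGroup.of_card (n := (Nat.card X).primeFactorsList.length) ?_⟩
  exact Nat.eq_prime_pow_of_unique_prime_dvd Nat.card_pos.ne' (fun {r} hr hd => by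
    by_contra hrp
    haveI := Fact.mk hr
    obtain ⟨P⟩ : Nonempty (Sylow r X) := inferInstance
    haveI : (P : Subgroup X).Normal := inferInstance
    have hle := hmin (P : Subgroup X) (fun h => by
      have h1 := P.not_dvd_index
      rw [h, Subgroup.index_bot] at h1
      exact h1 hd)
    obtain ⟨j, hj⟩ := P.2 ⟨z, hle hz⟩
    rw [Subgroup.orderOf_mk] at hzo
    have h1 : orderOf z ∣ r ^ j := orderOf_dvd_of_pow_eq_one (congrArg Subtype.val hj)
    rw [hzo] at h1
    exact hrp ((Nat.prime_dvd_prime_iff_eq hp hr).1 (hp.dvd_of_dvd_pow h1)).symm)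

variable [Group.IsSolvable G]

/-- The theorem. -/
theorem card_charDegrees_eq_three
    (hnd : ∀ a ∈ charDegrees G, ∀ b ∈ charDegrees G, 1 < a → a < b → ¬ a ∣ b)
    (htwo : Nat.card ((degreeGraph G).induce (degreePrimes G)).ConnectedComponent = 2) :
    Nat.card ↥(charDegrees G) = 3 := by
  classical
  have hanti : ∀ a ∈ charDegrees G, ∀ b ∈ charDegrees G, a ≠ 1 → a ∣ b → a = b := by
    intro a ha b hb ha1 hab
    obtain ⟨χ, rfl⟩ := ha
    obtain ⟨ξ, rfl⟩ := hb
    have h1 : 1 < charDegree (χ : G → ℂ) := by have := deg_pos χ; omega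
    by_contra hne
    exact hnd _ (mem_charDegrees χ) _ (mem_charDegrees ξ) h1
      (lt_of_le_of_ne (Nat.le_of_dvd (deg_pos ξ) hab) hne) hab
  obtain ⟨χ₀, hχ₀⟩ := exists_prime_of_ne htwo
  have hGab : commutator G ≠ ⊥ := fun h => hχ₀ (by
    have := Chars.irr_abelian_degree (fun a b : G => commutatorElement_eq_one_iff_mul_comm.1
      (Subgroup.mem_bot.1 (h ▸ Subgroup.commutator_mem_commutator (Subgroup.mem_top a)
        (Subgroup.mem_top b)))) χ₀.2
    rw [deg_eq] at this
    exact_mod_cast this)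
  -- a maximal normal subgroup with non-abelian quotient
  obtain ⟨K₀, ⟨hK₀n, hK₀⟩, hK₀max⟩ := (Set.toFinite
    {W : Subgroup G | W.Normal ∧ ¬ commutator G ≤ W}).exists_maximal
      ⟨⊥, inferInstance, fun h => hGab (le_bot_iff.1 h)⟩
  set π := QuotientGroup.mk' K₀
  have hπs : Function.Surjective π := QuotientGroup.mk'_surjective K₀
  letI : Fintype (G ⧸ K₀) := Fintype.ofFinite _
  have hcomm : commutator (G ⧸ K₀) = (commutator G).map π := by
    rw [commutator_def, commutator_def, Subgroup.map_commutator,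
      Subgroup.map_top_of_surjective π hπs]
  have hX : commutator (G ⧸ K₀) ≠ ⊥ := fun h => hK₀ fun g hg => by
    have : π g ∈ (⊥ : Subgroup (G ⧸ K₀)) := h ▸ hcomm ▸ Subgroup.mem_map_of_mem π hg
    exact (QuotientGroup.eq_one_iff g).1 (Subgroup.mem_bot.1 this)
  have hXmin : ∀ (W : Subgroup (G ⧸ K₀)) [W.Normal], W ≠ ⊥ → commutator (G ⧸ K₀) ≤ W := by
    intro W hW hWne
    rw [hcomm, Subgroup.map_le_iff_le_comap]
    by_contra hno
    refine hWne (eq_bot_iff.2 fun w hw => ?_)
    obtain ⟨g, rfl⟩ := hπs w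
    have hle : K₀ ≤ W.comap π := fun k hk => by
      change ((k : G) : G ⧸ K₀) ∈ W
      rw [(QuotientGroup.eq_one_iff k).2 hk]
      exact one_mem _
    exact Subgroup.mem_bot.2 ((QuotientGroup.eq_one_iff g).2
      (hK₀max ⟨hW.comap π, hno⟩ hle (show g ∈ W.comap π from hw)))
  by_cases hnil : Group.IsNilpotent (G ⧸ K₀)
  · -- a prime dividing all non-linear degrees
    exfalso
    haveI := hnil
    obtain ⟨p, hp, hP⟩ := exists_isPGroup hX hXmin
    haveI := Fact.mk hp
    obtain ⟨k, hk⟩ := hP.exists_card_eq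
    obtain ⟨β₀, hβ₀⟩ : ∃ β : IrrCharacter (G ⧸ K₀), charDegree (β : G ⧸ K₀ → ℂ) ≠ 1 := by
      by_contra hno
      push Not at hno
      apply hX
      have hab := CdTwo.abelian_of_linear (⊤ : Subgroup (G ⧸ K₀)) fun θ => by
        have h1 : Function.Surjective
            (Subgroup.topEquiv (G := G ⧸ K₀)).symm.toMonoidHom :=
          (Subgroup.topEquiv (G := G ⧸ K₀)).symm.surjective
        have h2 := hno ⟨_, Chars.isIrrCharacter_comp _ h1 θ.2⟩
        rw [deg_eq, Nat.cast_eq_one]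
        simpa [charDegree] using h2
      rw [eq_bot_iff, commutator_def, Subgroup.commutator_le]
      exact fun a _ b _ => Subgroup.mem_bot.2 (commutatorElement_eq_one_iff_mul_comm.2
        (hab a (Subgroup.mem_top a) b (Subgroup.mem_top b)))
    refine false_of_common_prime htwo hp fun χ hχ => ?_
    by_contra hpχ
    haveI := Fintype.ofFinite K₀
    letI := Chars.irrFintype G
    obtain ⟨θ, hθ⟩ := exists_below K₀ χ.2
    obtain ⟨e, -, he, hed⟩ := degree_quotient K₀ χ.2 θ.2 hθ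
    rw [deg_eq, deg_eq] at he
    have he' : charDegree (χ : G → ℂ) = e * charDegree (θ : K₀ → ℂ) := by exact_mod_cast he
    have he1 : e = 1 := by
      rw [Subgroup.index_eq_card, hk] at hed
      obtain ⟨i, -, rfl⟩ := (Nat.dvd_prime_pow hp).1 hed
      rcases i with _ | i
      · rfl
      · exact absurd (he' ▸ (dvd_pow_self p i.succ_ne_zero).mul_right _) hpχ
    rw [he1, one_mul] at he'
    -- the restriction is irreducible
    have hres : (fun n : K₀ => (χ : G → ℂ) n) = (θ : K₀ → ℂ) := by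
      have hc := Chars.isCharacter_restrict K₀ (Chars.isCharacter_of_irr χ.2)
      exact eq_of_constituent_degree hc θ.2 hθ (d := charDegree (χ : G → ℂ))
        (by rw [OneMemClass.coe_one, deg_eq]) (deg_eq θ) he'.le
    have hβ : inflate K₀ β₀ ∈ quotIrr K₀ := (mem_quotIrr K₀).2 (le_charKer_inflate K₀ β₀)
    have hirr := gallagher_irr K₀ χ.2 (hres ▸ θ.2) hβ
    have hd : charDegree ((inflate K₀ β₀ : G → ℂ) * (χ : G → ℂ)) =
        charDegree (β₀ : G ⧸ K₀ → ℂ) * charDegree (χ : G → ℂ) := by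
      have h1 := deg_eq (⟨_, hirr⟩ : IrrCharacter G)
      change (inflate K₀ β₀ : G → ℂ) 1 * (χ : G → ℂ) 1 = _ at h1
      rw [deg_eq, deg_eq, inflate_charDegree] at h1
      exact_mod_cast h1.symm
    have h2 := hanti _ (mem_charDegrees χ) _ (mem_charDegrees ⟨_, hirr⟩) hχ
      (by rw [hd]; exact dvd_mul_left _ _)
    rw [hd, eq_comm] at h2
    exact hβ₀ ((mul_eq_right₀ (deg_pos χ).ne').1 h2)
  -- a Frobenius quotient
  haveI : Nontrivial (G ⧸ K₀) := not_subsingleton_iff_nontrivial.1 fun _ => hnil inferInstance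
  obtain ⟨V₀, hV₀⟩ := Base.exists_isMinimalNormal (G := G ⧸ K₀)
  haveI := hV₀.normal
  haveI : Group.IsSolvable (G ⧸ K₀) := Group.isSolvable_of_surjective hπs
  obtain ⟨q₀, -, hVc, -, -⟩ := hV₀.exists_prime inferInstance
  obtain ⟨V, hVn, q, hq, ⟨χf, hχf⟩, hf1, hqf, hlt, hVab, hVq, hVd, hfpf⟩ :=
    CdTwo.frobenius_core (X := G ⧸ K₀)
      (fun a ha b hb => congrArg Subtype.val (hVc.is_comm.comm
        ⟨a, hXmin V₀ hV₀.ne_bot ha⟩ ⟨b, hXmin V₀ hV₀.ne_bot hb⟩)) hnil
      (fun W _ hW => by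
        refine Subgroup.isNilpotent_of_ker_le_center (1 : (G ⧸ K₀) ⧸ W →* Multiplicative Unit)
          fun a _ => Subgroup.mem_center_iff.2 fun b => ?_
        obtain ⟨a, rfl⟩ := QuotientGroup.mk_surjective a
        obtain ⟨b, rfl⟩ := QuotientGroup.mk_surjective b
        exact mk_comm (hXmin W hW) b a)
  set f := V.index with hfdef
  have hfG : f ∈ charDegrees G := ⟨inflate K₀ χf, by rw [inflate_charDegree, hχf]⟩
  haveI := hVn
  set N := V.comap π with hNdef
  haveI hNn : N.Normal := hVn.comap π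
  haveI := Fintype.ofFinite N
  have hNidx : N.index = f := Subgroup.index_comap_of_surjective _ hπs
  have hNab : commutator G ≤ N := fun g hg =>
    hVd (hcomm ▸ Subgroup.mem_map_of_mem π hg)
  have hqψ : ∀ ψ : IrrCharacter N, charDegree (ψ : N → ℂ) ≠ 1 → q ∣ charDegree (ψ : N → ℂ) := by
    intro ψ hψ
    by_contra hqd
    obtain ⟨χ, hχ⟩ := CdTwo.exists_twist_degree K₀ hVn hq hlt hVab hVq hfpf rfl ψ hqd
    have h := hanti f hfG _ (mem_charDegrees χ) hf1 ((dvd_mul_right _ _).trans hχ)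
    rw [← h] at hχ
    exact hψ (Nat.dvd_one.1 ((Nat.mul_dvd_mul_iff_left
      (Nat.pos_of_ne_zero Subgroup.index_ne_zero_of_finite)).1
        (hχ.trans (mul_one f).symm.dvd)))
  -- degrees of `G`
  have hover : ∀ (χ : IrrCharacter G) (ψ : IrrCharacter N),
      classInner (fun n : N => (χ : G → ℂ) n) ψ ≠ 0 →
      ∃ k, 0 < k ∧ charDegree (χ : G → ℂ) = k * charDegree (ψ : N → ℂ) ∧ k ∣ f := by
    intro χ ψ h
    obtain ⟨k, hk0, hk, hkd⟩ := degree_quotient N χ.2 ψ.2 h
    rw [deg_eq, deg_eq] at hk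
    exact ⟨k, hk0, by exact_mod_cast hk, hNidx ▸ hkd⟩
  have hsmall : ∀ (χ : IrrCharacter G) (ψ : IrrCharacter N),
      classInner (fun n : N => (χ : G → ℂ) n) ψ ≠ 0 → charDegree (ψ : N → ℂ) = 1 →
      charDegree (χ : G → ℂ) = 1 ∨ charDegree (χ : G → ℂ) = f := by
    intro χ ψ h h1
    obtain ⟨k, -, hk, hkd⟩ := hover χ ψ h
    rw [h1, mul_one] at hk
    exact (em _).imp_right fun hne => hanti _ (mem_charDegrees χ) f hfG hne (hk ▸ hkd)
  have hbig : ∀ (χ : IrrCharacter G) (ψ : IrrCharacter N),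
      classInner (fun n : N => (χ : G → ℂ) n) ψ ≠ 0 → charDegree (ψ : N → ℂ) ≠ 1 →
      q ∣ charDegree (χ : G → ℂ) := by
    intro χ ψ h h1
    obtain ⟨k, -, hk, -⟩ := hover χ ψ h
    exact hk ▸ (hqψ ψ h1).mul_left k
  have hcop : ∀ (χ : IrrCharacter G) (ψ : IrrCharacter N),
      classInner (fun n : N => (χ : G → ℂ) n) ψ ≠ 0 → charDegree (ψ : N → ℂ) ≠ 1 →
      Nat.Coprime (charDegree (χ : G → ℂ)) f := by
    intro χ ψ h h1
    by_contra hnc
    obtain ⟨r, hr, hrχ, hrf⟩ := Nat.Prime.not_coprime_iff_dvd.1 hnc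
    refine card_components_le_one (r := r) ⟨hr, f, hfG, hrf⟩ (fun v => ?_) htwo
    obtain ⟨hv, d, ⟨ξ, rfl⟩, hvd⟩ := v.2
    obtain ⟨η, hη⟩ := exists_below N ξ.2
    by_cases hη1 : charDegree (η : N → ℂ) = 1
    · rcases hsmall ξ η hη hη1 with h2 | h2
      · exact absurd (Nat.dvd_one.1 (h2 ▸ hvd)) hv.ne_one
      · exact reachable_of_dvd hfG _ _ (h2 ▸ hvd) hrf
    · have hqV : q ∈ degreePrimes G := ⟨hq, _, mem_charDegrees χ, hbig χ ψ h h1⟩
      exact (reachable_of_dvd (mem_charDegrees ξ) v ⟨q, hqV⟩ hvd (hbig ξ η hη hη1)).trans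
        (reachable_of_dvd (mem_charDegrees χ) ⟨q, hqV⟩ _ (hbig χ ψ h h1) hrχ)
  have heq : ∀ (χ : IrrCharacter G) (ψ : IrrCharacter N),
      classInner (fun n : N => (χ : G → ℂ) n) ψ ≠ 0 → charDegree (ψ : N → ℂ) ≠ 1 →
      charDegree (χ : G → ℂ) = charDegree (ψ : N → ℂ) := by
    intro χ ψ h h1
    obtain ⟨k, -, hk, hkd⟩ := hover χ ψ h
    rw [hk, Nat.eq_one_of_dvd_coprimes (hcop χ ψ h h1) (hk ▸ dvd_mul_right _ _) hkd, one_mul]
  -- the automorphism
  obtain ⟨g, hg⟩ : ∃ g : G, g ∉ N := by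
    by_contra hno
    push Not at hno
    exact hf1 (hNidx ▸ Subgroup.index_eq_one.2 ((Subgroup.eq_top_iff' N).2 hno))
  let γ : MulAut N := MulAut.conjNormal g
  have hinv : ∀ ψ : IrrCharacter N, charDegree (ψ : N → ℂ) ≠ 1 →
      ∀ n, (ψ : N → ℂ) (γ n) = (ψ : N → ℂ) n := by
    intro ψ hψ n
    obtain ⟨χ, hχ⟩ := exists_over N ψ.2
    have hd := clifford_degree N χ.2 ψ.2 hχ
    rw [inner_eq_multNat (Chars.isCharacter_restrict N (Chars.isCharacter_of_irr χ.2))
      (Chars.isCharacter_of_irr ψ.2), deg_eq, deg_eq, heq χ ψ hχ hψ] at hd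
    have hd' : charDegree (ψ : N → ℂ) = multNat (fun n : N => (χ : G → ℂ) n) (ψ : N → ℂ) *
        (inertia N (ψ : N → ℂ)).index * charDegree (ψ : N → ℂ) := by exact_mod_cast hd
    have h1 : (inertia N (ψ : N → ℂ)).index = 1 :=
      Nat.eq_one_of_mul_eq_one_left ((mul_eq_right₀ (deg_pos ψ).ne').1 hd'.symm)
    have hmem : g ∈ inertia N (ψ : N → ℂ) := Subgroup.index_eq_one.1 h1 ▸ Subgroup.mem_top g
    have h2 := (mem_inertia N).1 hmem n
    rwa [show conjBy N g n = γ n from Subtype.ext (by simp [γ])] at h2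
  have D : Data N γ q f := by
    refine ⟨hq, hqf, ?_, hqψ, fun ψ hψ => ?_, hinv, fun ψ ξ hψ hξ hdvd => ?_⟩
    · refine ⟨⟨g ^ f, hNidx ▸ N.pow_index_mem g⟩, fun n => ?_⟩
      have hi : ∀ i, (((γ : N → N)^[i] n : N) : G) = g ^ i * n * (g ^ i)⁻¹ := by
        intro i
        induction i with
        | zero => simp
        | succ i ih =>
          rw [Function.iterate_succ_apply', MulAut.conjNormal_apply, ih, pow_succ']
          group
      exact Subtype.ext (hi f)
    · obtain ⟨χ, hχ⟩ := exists_over N ψ.2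
      exact heq χ ψ hχ hψ ▸ hcop χ ψ hχ hψ
    · obtain ⟨χ, hχ⟩ := exists_over N ψ.2
      obtain ⟨χ', hχ'⟩ := exists_over N ξ.2
      have h := hanti _ (mem_charDegrees χ) _ (mem_charDegrees χ')
      rw [heq χ ψ hχ hψ, heq χ' ξ hχ' hξ] at h
      exact h hψ hdvd
  have hmove : ∀ L : Subgroup N, L.Normal → (Nat.card L).Coprime q →
      ∃ y, γ y * y⁻¹ ∉ L := by
    intro L _ hL
    by_contra hno
    push Not at hno
    have htriv : ∀ l ∈ L, π (l : G) = 1 := by
      intro l hl
      have h1 : π (l : G) ^ q = 1 := hVq _ l.2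
      have h2 : π (l : G) ^ Nat.card L = 1 := by
        rw [← map_pow, ← SubmonoidClass.coe_pow,
          orderOf_dvd_iff_pow_eq_one.1 (Subgroup.orderOf_dvd_natCard L hl), OneMemClass.coe_one,
          map_one]
      have h3 := pow_gcd_eq_one.2 ⟨h1, h2⟩
      rwa [show Nat.gcd q (Nat.card L) = 1 from hL.symm, pow_one] at h3
    have hVbot : ∀ v ∈ V, v = 1 := by
      intro v hv
      obtain ⟨y, rfl⟩ := hπs v
      refine hfpf (π g) hg (π y) hv ?_
      have h := htriv _ (hno ⟨y, hv⟩)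
      rw [Subgroup.coe_mul, InvMemClass.coe_inv, MulAut.conjNormal_apply, map_mul, map_mul,
        map_mul, map_inv, map_inv, mul_inv_eq_one, mul_inv_eq_iff_eq_mul] at h
      exact h
    have hV1 : Nat.card V ≤ 1 := Finite.card_le_one_iff_subsingleton.2
      ⟨fun a b => Subtype.ext ((hVbot a a.2).trans (hVbot b b.2).symm)⟩
    have hf0 : 0 < f := Nat.pos_of_ne_zero Subgroup.index_ne_zero_of_finite
    omega
  have hall := D.degrees_eq hmove
  -- collect the degrees
  obtain ⟨ψ₀, hψ₀⟩ : ∃ ψ : IrrCharacter N, charDegree (ψ : N → ℂ) ≠ 1 := by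
    by_contra hno
    push Not at hno
    obtain ⟨r, hr, hrf⟩ := Nat.exists_prime_and_dvd hf1
    refine false_of_common_prime htwo hr fun χ hχ => ?_
    obtain ⟨ψ, hψ⟩ := exists_below N χ.2
    rcases hsmall χ ψ hψ (hno ψ) with h | h
    · exact absurd h hχ
    · rw [h]; exact hrf
  set d := charDegree (ψ₀ : N → ℂ) with hd
  have hdf : d ≠ f := fun h => hf1 (by
    have := D.cop ψ₀ hψ₀
    rw [← hd, h] at this
    exact (Nat.coprime_self f).1 this)
  obtain ⟨χd, hχd⟩ := exists_over N ψ₀.2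
  have hset : charDegrees G = {1, f, d} := by
    ext m
    simp only [Set.mem_insert_iff, Set.mem_singleton_iff]
    constructor
    · rintro ⟨χ, rfl⟩
      obtain ⟨ψ, hψ⟩ := exists_below N χ.2
      by_cases h1 : charDegree (ψ : N → ℂ) = 1
      · rcases hsmall χ ψ hψ h1 with h | h
        · exact Or.inl h
        · exact Or.inr (Or.inl h)
      · exact Or.inr (Or.inr ((heq χ ψ hψ h1).trans (hall ψ ψ₀ h1 hψ₀)))
    · rintro (rfl | rfl | rfl)
      · exact ⟨Chars.principal G, by simp [charDegree, Chars.principal_apply]⟩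
      · exact hfG
      · exact ⟨χd, heq χd ψ₀ hχd hψ₀⟩
  rw [hset, Nat.card_coe_set_eq, Set.ncard_eq_three]
  exact ⟨1, f, d, fun h => hf1 h.symm, fun h => hψ₀ h.symm, fun h => hdf h.symm, rfl⟩

end CfsgLib.DegreeAntichain
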